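import Cfsg.Agent.H40.Hyperplane
import Mathlib.GroupTheory.SemidirectProduct
import Mathlib.GroupTheory.PGroup

/-!
Fixed points of an elementary abelian group acting coprimely: generation and lifting from quotients.
-/

set_option autoImplicit false

namespace Cfsg.Agent.KS24

variable {A G : Type*} [CommGroup A] [Group G] (φ : A →* MulAut G)

/-- The fixed points of one element. -/
abbrev Cel (a : A) : Subgroup G := (φ a).toMonoidHom.eqLocus (MonoidHom.id G)

/-- The fixed points of a subgroup. -/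
def CB (B : Subgroup A) : Subgroup G := ⨅ b ∈ B, Cel φ b

/-- Invariance under the action. -/
def Inv (K : Subgroup G) : Prop := ∀ a : A, K.map (φ a).toMonoidHom ≤ K

/-- The derived series of a subgroup, inside the group. -/
def dser (H : Subgroup G) : ℕ → Subgroup G
  | 0 => H
  | n + 1 => ⁅dser H n, dser H n⁆

variable {φ}

theorem mem_Cel {a : A} {g : G} : g ∈ Cel φ a ↔ φ a g = g := Iff.rfl

theorem mem_CB {B : Subgroup A} {g : G} : g ∈ CB φ B ↔ ∀ b ∈ B, φ b g = g := by
  simp [CB, Subgroup.mem_iInf, mem_Cel]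

theorem CB_le {B : Subgroup A} {b : A} (hb : b ∈ B) : CB φ B ≤ Cel φ b :=
  fun _ hx => mem_CB.1 hx b hb

theorem Inv.mem {K : Subgroup G} (h : Inv φ K) (a : A) {x : G} (hx : x ∈ K) : φ a x ∈ K :=
  h a (Subgroup.mem_map_of_mem _ hx)

theorem inv_of_mem {K : Subgroup G} (h : ∀ a, ∀ x ∈ K, φ a x ∈ K) : Inv φ K := by
  rintro a _ ⟨x, hx, rfl⟩
  exact h a x hx

theorem Inv.inf {K K' : Subgroup G} (h : Inv φ K) (h' : Inv φ K') : Inv φ (K ⊓ K') :=
  inv_of_mem fun a _ hx => ⟨h.mem a hx.1, h'.mem a hx.2⟩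

theorem Inv.bracket {K K' : Subgroup G} (h : Inv φ K) (h' : Inv φ K') : Inv φ ⁅K, K'⁆ := fun a => by
  rw [Subgroup.map_commutator]
  exact Subgroup.commutator_mono (h a) (h' a)

theorem inv_Cel (b : A) : Inv φ (Cel φ b) := inv_of_mem fun a x hx => by
  have hx : φ b x = x := hx
  show φ b (φ a x) = φ a x
  rw [← MulAut.mul_apply, ← map_mul, mul_comm, map_mul, MulAut.mul_apply, hx]

theorem inv_CB (B : Subgroup A) : Inv φ (CB φ B) := inv_of_mem fun a x hx => by
  rw [mem_CB] at hx ⊢
  exact fun b hb => (inv_Cel b).mem a (hx b hb)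

theorem inv_top : Inv φ (⊤ : Subgroup G) := fun _ => le_top

theorem inv_of_characteristic (K : Subgroup G) [K.Characteristic] : Inv φ K := fun a =>
  (Subgroup.characteristic_iff_map_eq.1 ‹_› (φ a)).le

theorem Inv.dser {H : Subgroup G} (h : Inv φ H) : ∀ n, Inv φ (dser H n)
  | 0 => h
  | n + 1 => (Inv.dser h n).bracket (Inv.dser h n)

theorem Inv.lcs {H : Subgroup G} (h : Inv φ H) : ∀ n, Inv φ (H.lowerCentralSeries n)
  | 0 => h
  | n + 1 => (Inv.lcs h n).bracket h

theorem dser_mono {H K : Subgroup G} (h : H ≤ K) : ∀ n, dser H n ≤ dser K n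
  | 0 => h
  | n + 1 => Subgroup.commutator_mono (dser_mono h n) (dser_mono h n)

theorem dser_top (n : ℕ) : dser (⊤ : Subgroup G) n = derivedSeries G n := by
  induction n with
  | zero => rfl
  | succ n ih => rw [dser, ih, derivedSeries_succ]

theorem map_dser {H : Type*} [Group H] (f : G →* H) (K : Subgroup G) :
    ∀ n, (dser K n).map f = dser (K.map f) n
  | 0 => rfl
  | n + 1 => by rw [dser, dser, Subgroup.map_commutator, map_dser f K n]

theorem dser_le_lcs (H : Subgroup G) : ∀ n, dser H n ≤ H.lowerCentralSeries n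
  | 0 => le_rfl
  | n + 1 => Subgroup.commutator_mono (dser_le_lcs H n)
      ((dser_le_lcs H n).trans (Subgroup.lowerCentralSeries_antitone _ (Nat.zero_le n)))

theorem dser_add (H : Subgroup G) (i : ℕ) : ∀ j, dser (dser H i) j = dser H (i + j)
  | 0 => rfl
  | j + 1 => by rw [dser, dser_add H i j]; rfl

section Coprime

variable [Finite A] [Finite G] {p : ℕ} [hp : Fact p.Prime]

/-- An invariant subgroup is generated by the fixed points of the hyperplanes of `E`. -/
theorem le_of_hyper (hexp : ∀ a : A, a ^ p = 1) (hG : (Nat.card G).Coprime p) {K H : Subgroup G}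
    (hK : Inv φ K) (E : Subgroup A)
    (h : ∀ B : Subgroup A, B ≤ E → B.relIndex E ≤ p → K ⊓ CB φ B ≤ H) : K ≤ H := by
  let Γ := G ⋊[φ] A
  haveI : Finite Γ := Finite.of_equiv (G × A) SemidirectProduct.equivProd.symm
  let il : G →* Γ := SemidirectProduct.inl
  let ir : A →* Γ := SemidirectProduct.inr
  have hE : Cfsg.IsElementaryAbelian p (E.map ir) := by
    refine ⟨⟨⟨fun x y => Subtype.ext ?_⟩⟩, ?_⟩
    · obtain ⟨a, -, ha⟩ := x.2
      obtain ⟨b, -, hb⟩ := y.2
      show (x : Γ) * y = y * x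
      rw [← ha, ← hb, ← map_mul, mul_comm, map_mul]
    · rintro _ ⟨a, -, rfl⟩
      rw [← map_pow, hexp, map_one]
  have hinj : Function.Injective il := SemidirectProduct.inl_injective
  have hcard : ¬ p ∣ Nat.card (K.map il) := by
    rw [Subgroup.card_map_of_injective hinj]
    intro hd
    exact hp.out.coprime_iff_not_dvd.1 hG.symm (hd.trans (Subgroup.card_subgroup_dvd_card K))
  have hnorm : E.map ir ≤ Subgroup.normalizer ((K.map il : Subgroup Γ) : Set Γ) := by
    refine Subgroup.le_normalizer_iff.mpr ?_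
    rintro _ ⟨a, -, rfl⟩ _ ⟨x, hx, rfl⟩
    exact ⟨φ a x, hK.mem a hx, by
      rw [← map_inv ir]
      exact SemidirectProduct.inl_aut a x⟩
  have hle := H40.le_iSup_hyperplane hE hcard hnorm
  refine (Subgroup.map_le_map_iff_of_injective hinj).1 (hle.trans (iSup_le fun B => ?_))
  obtain ⟨B, hB, hBi⟩ := B
  rintro _ ⟨⟨x, hx, rfl⟩, hc⟩
  have hcomap : (E.map ir).comap ir = E :=
    Subgroup.comap_map_eq_self_of_injective SemidirectProduct.inr_injective E
  refine Subgroup.mem_map_of_mem il (h (B.comap ir) ?_ ?_ ⟨hx, mem_CB.2 fun b hb => ?_⟩)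
  · exact (Subgroup.comap_mono hB).trans hcomap.le
  · rwa [Subgroup.relIndex_comap, show Subgroup.map ir E = E.map ir from rfl]
  · have := Subgroup.mem_centralizer_iff.1 hc (ir b) hb
    refine hinj ?_
    rw [show il (φ b x) = ir b * il x * (ir b)⁻¹ by rw [← map_inv ir]; exact SemidirectProduct.inl_aut b x]
    exact mul_inv_eq_of_eq_mul this

theorem relIndex_mul_card {B E : Subgroup A} (hB : B ≤ E) :
    Nat.card B * B.relIndex E = Nat.card E := by
  have h := Subgroup.relIndex_mul_relIndex ⊥ B E bot_le hB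
  rwa [Subgroup.relIndex_bot_left, Subgroup.relIndex_bot_left] at h

/-- Generation by the fixed points of the nonidentity elements of a noncyclic `E`. -/
theorem le_of_elts (hexp : ∀ a : A, a ^ p = 1) (hG : (Nat.card G).Coprime p) {K H : Subgroup G}
    (hK : Inv φ K) (E : Subgroup A) (hE : p ^ 2 ≤ Nat.card E)
    (h : ∀ e ∈ E, e ≠ 1 → K ⊓ Cel φ e ≤ H) : K ≤ H := by
  refine le_of_hyper hexp hG hK E fun B hB hBi => ?_
  have hne : B ≠ ⊥ := by
    rintro rfl
    have h1 := hp.out.two_le
    rw [Subgroup.relIndex_bot_left] at hBi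
    nlinarith
  obtain ⟨⟨b, hb⟩, hb1⟩ := Subgroup.ne_bot_iff_exists_ne_one.1 hne
  exact (inf_le_inf_left _ (CB_le hb)).trans (h b (hB hb) fun hb' => hb1 (Subtype.ext hb'))

/-- A coset of an invariant subgroup fixed by an element of order dividing `p` has a fixed point. -/
theorem exists_fixed_coset (hexp : ∀ a : A, a ^ p = 1) (hG : (Nat.card G).Coprime p) (a : A)
    {K : Subgroup G} (hK : Inv φ K) {x : G} (hx : x⁻¹ * φ a x ∈ K) :
    ∃ n ∈ K, φ a (x * n) = x * n := by
  let S : Set G := {y | x⁻¹ * y ∈ K}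
  have hS : ∀ y ∈ S, φ a y ∈ S := fun y hy => by
    have := mul_mem hx (hK.mem a hy)
    show x⁻¹ * φ a y ∈ K
    simpa [mul_assoc] using this
  have hpow : ∀ (n : ℕ), ∀ y ∈ S, φ (a ^ n) y ∈ S := by
    intro n
    induction n with
    | zero => intro y hy; simpa using hy
    | succ n ih => intro y hy; rw [pow_succ, map_mul]; exact ih _ (hS y hy)
  have hmem : ∀ (c : Subgroup.zpowers a), ∀ y ∈ S, φ c y ∈ S := by
    rintro ⟨c, hc⟩ y hy
    obtain ⟨n, rfl⟩ := mem_powers_iff_mem_zpowers.2 hc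
    exact hpow n y hy
  letI : MulAction (Subgroup.zpowers a) S :=
    { smul := fun c y => ⟨φ c y, hmem c y y.2⟩
      one_smul := fun y => Subtype.ext (by show φ ((1 : Subgroup.zpowers a) : A) y = y; simp)
      mul_smul := fun c d y => Subtype.ext (by
        show φ ((c * d : Subgroup.zpowers a) : A) y = φ c (φ d y)
        simp) }
  have hP : IsPGroup p (Subgroup.zpowers a) := fun c => ⟨1, Subtype.ext (by simpa using hexp c)⟩
  have hcard : Nat.card S = Nat.card K :=
    Nat.card_congr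
      { toFun := fun y => ⟨x⁻¹ * y, y.2⟩
        invFun := fun k => ⟨x * k, by show x⁻¹ * (x * k) ∈ K; simp⟩
        left_inv := fun y => Subtype.ext (by simp)
        right_inv := fun k => Subtype.ext (by simp) }
  obtain ⟨y, hy⟩ := hP.nonempty_fixed_point_of_prime_not_dvd_card S (by
    rw [hcard]
    exact fun hd => hp.out.coprime_iff_not_dvd.1 hG.symm
      (hd.trans (Subgroup.card_subgroup_dvd_card K)))
  refine ⟨x⁻¹ * y, y.2, ?_⟩
  rw [mul_inv_cancel_left]
  exact congrArg Subtype.val (hy ⟨a, Subgroup.mem_zpowers a⟩)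

end Coprime

end Cfsg.Agent.KS24
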