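import Cfsg.Agent.FG72.Lie.Kreknin

/-!
Two facts on Lie rings: a solvable family spanned by few ad-nilpotent sets acts nilpotently, and
Kreknin's theorem for a grading whose zero component acts nilpotently.
-/

set_option autoImplicit false

namespace Cfsg.Agent.KS24

open FG72.LieGrad

variable {L : Type*} [AddCommGroup L]

/-- The elements killed by all products of `r` operators from `T`. -/
def Ker (B : L →+ L →+ L) (T : Set L) : ℕ → AddSubgroup L
  | 0 => ⊥
  | r + 1 => ⨅ t ∈ T, (Ker B T r).comap (B t)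

variable {B : L →+ L →+ L} {T T' : Set L}

theorem mem_ker_succ {r : ℕ} {x : L} : x ∈ Ker B T (r + 1) ↔ ∀ t ∈ T, B t x ∈ Ker B T r := by
  simp [Ker, AddSubgroup.mem_iInf]

theorem ker_anti (h : T ⊆ T') : ∀ r, Ker B T' r ≤ Ker B T r := by
  intro r
  induction r with
  | zero => exact le_rfl
  | succ r ih => exact fun x hx => mem_ker_succ.2 fun t ht => ih (mem_ker_succ.1 hx t (h ht))

theorem ker_le_closure : ∀ r, Ker B T r ≤ Ker B (AddSubgroup.closure T : Set L) r := by
  intro r
  induction r with
  | zero => exact le_rfl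
  | succ r ih =>
    intro x hx
    refine mem_ker_succ.2 fun t ht => ih ?_
    exact (AddSubgroup.closure_le ((Ker B T r).comap (B.flip x))).2
      (fun u hu => mem_ker_succ.1 hx u hu) ht

theorem ker_eq_top_of_subset_closure {n : ℕ} (h : Ker B T n = ⊤)
    (hT : T' ⊆ (AddSubgroup.closure T : Set L)) : Ker B T' n = ⊤ :=
  top_le_iff.1 (h.ge.trans ((ker_le_closure n).trans (ker_anti hT n)))

/-- Apply a list of operators. -/
def run (B : L →+ L →+ L) (l : List L) (x : L) : L := l.foldr (fun t v => B t v) x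

theorem run_cons (t : L) (l : List L) (x : L) : run B (t :: l) x = B t (run B l x) := rfl

theorem run_append (l l' : List L) (x : L) : run B (l ++ l') x = run B l (run B l' x) :=
  List.foldr_append

theorem run_zero (l : List L) : run B l 0 = 0 := by
  induction l with
  | nil => rfl
  | cons t l ih => rw [run_cons, ih, map_zero]

theorem run_eq_zero : ∀ (r : ℕ) (l : List L), l.length = r → (∀ t ∈ l, t ∈ T) →
    ∀ x ∈ Ker B T r, run B l x = 0 := by
  intro r
  induction r with
  | zero => intro l hl _ x hx; rw [List.length_eq_zero_iff.1 hl]; exact hx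
  | succ r ih =>
    intro l hl hT x hx
    rcases List.eq_nil_or_concat' l with rfl | ⟨l', t, rfl⟩
    · simp at hl
    · rw [run_append]
      exact ih l' (by simpa using hl) (fun u hu => hT u (by simp [hu])) _
        (mem_ker_succ.1 hx t (hT t (by simp)))

theorem mem_ker_add {q : ℕ} : ∀ (N : ℕ) (x : L),
    (∀ l : List L, l.length = N → (∀ t ∈ l, t ∈ T) → run B l x ∈ Ker B T q) →
      x ∈ Ker B T (q + N) := by
  intro N
  induction N with
  | zero => intro x h; exact h [] rfl (by simp)
  | succ N ih =>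
    intro x h
    refine mem_ker_succ.2 fun t ht => ih _ fun l hl hlT => ?_
    have := h (l ++ [t]) (by simp [hl]) (by simpa [or_imp, forall_and, ht] using hlT)
    rwa [run_append] at this

theorem exists_countP_gt {ι : Type*} [Fintype ι] [DecidableEq ι] (f : L → ι) {c : ℕ} (l : List L)
    (h : Fintype.card ι * c < l.length) : ∃ i, c < l.countP fun t => f t = i := by
  by_contra hcon
  push Not at hcon
  have hsum : ∀ l : List L, l.length = ∑ i, l.countP fun t => f t = i := by
    intro l
    induction l with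
    | nil => simp
    | cons t l ih => simp [List.countP_cons, Finset.sum_add_distrib, ← ih, Finset.sum_ite_eq]
  have h2 := Finset.sum_le_card_nsmul (Finset.univ : Finset ι) _ c fun i _ => hcon i
  rw [← hsum, Finset.card_univ, smul_eq_mul] at h2
  omega

/-- The descent step. -/
theorem ker_step (hB : IsLie B) {ι : Type*} [Fintype ι] (U : ι → Set L) (c : ℕ)
    (hU : ∀ i, Ker B (U i) (c + 1) = ⊤) (hcov : ∀ t ∈ T, ∃ i, t ∈ U i) (hsub : T' ⊆ T)
    (hbr : ∀ t ∈ T, ∀ u ∈ T, B t u ∈ AddSubgroup.closure T') {n : ℕ}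
    (hn : Ker B T' n = ⊤) : Ker B T (n * (Fintype.card ι * c + 1)) = ⊤ := by
  classical
  set N := Fintype.card ι * c + 1 with hN
  have hinv : ∀ (r : ℕ), ∀ t ∈ T, ∀ x ∈ Ker B T' r, B t x ∈ Ker B T' r := by
    intro r
    induction r with
    | zero => intro t _ x hx; rw [AddSubgroup.mem_bot.1 hx, map_zero]; exact zero_mem _
    | succ r ih =>
      intro t ht x hx
      refine mem_ker_succ.2 fun u hu => ?_
      rw [hB.jacobi]
      exact add_mem (mem_ker_succ.1 (ker_le_closure _ hx) _ (hbr u (hsub hu) t ht) |> fun h =>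
        ker_anti AddSubgroup.subset_closure r h) (ih t ht _ (mem_ker_succ.1 hx u hu))
  have hrun : ∀ (r : ℕ) (l : List L), (∀ t ∈ l, t ∈ T) → ∀ x ∈ Ker B T' r,
      run B l x ∈ Ker B T' r := by
    intro r l
    induction l with
    | nil => exact fun _ x hx => hx
    | cons t l ih =>
      intro hl x hx
      exact hinv r t (hl t (by simp)) _ (ih (fun u hu => hl u (by simp [hu])) x hx)
  have hperm : ∀ (r : ℕ), ∀ x ∈ Ker B T' (r + 1), ∀ l l' : List L, l.Perm l' →
      (∀ t ∈ l, t ∈ T) → run B l x - run B l' x ∈ Ker B T' r := by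
    intro r x hx l l' h
    induction h with
    | nil => intro _; rw [sub_self]; exact zero_mem _
    | cons t hp ih =>
      intro hl
      rw [run_cons, run_cons, ← map_sub]
      exact hinv r t (hl t (by simp)) _ (ih fun u hu => hl u (by simp [hu]))
    | swap u v l₀ =>
      intro hl
      simp only [run_cons]
      rw [hB.jacobi, add_sub_cancel_right]
      exact ker_anti AddSubgroup.subset_closure r <| mem_ker_succ.1
        (ker_le_closure _ (hrun (r + 1) l₀ (fun t ht => hl t (by simp [ht])) x hx)) _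
        (hbr v (hl v (by simp)) u (hl u (by simp)))
    | trans h₁ _ ih₁ ih₂ =>
      intro hl
      have := add_mem (ih₁ hl) (ih₂ fun t ht => hl t (h₁.symm.subset ht))
      rwa [sub_add_sub_cancel] at this
  suffices h : ∀ r, Ker B T' r ≤ Ker B T (r * N) from top_le_iff.1 (hn.ge.trans (h n))
  intro r
  induction r with
  | zero => rw [Nat.zero_mul]; exact le_rfl
  | succ r ih =>
    intro x hx
    rw [Nat.succ_mul]
    refine mem_ker_add N x fun l hl hlT => ih ?_
    rcases Nat.eq_zero_or_pos N with h0 | -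
    · omega
    obtain ⟨t₀, ht₀⟩ : ∃ t, t ∈ l := List.exists_mem_of_length_pos (by omega)
    haveI : Nonempty ι := ⟨(hcov t₀ (hlT t₀ ht₀)).choose⟩
    let f : L → ι := fun t => if h : ∃ i, t ∈ U i then h.choose else Classical.arbitrary ι
    have hf : ∀ t ∈ T, t ∈ U (f t) := fun t ht => by
      simp only [f, dif_pos (hcov t ht)]
      exact (hcov t ht).choose_spec
    obtain ⟨i, hi⟩ := exists_countP_gt f (c := c) l (by omega)
    set F := l.filter fun t => f t = i with hF
    have hFlen : c + 1 ≤ F.length := by rw [hF, ← List.countP_eq_length_filter]; omega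
    set l₂ := F.drop (F.length - (c + 1)) with hl₂
    set l₁ := (l.filter fun t => !decide (f t = i)) ++ F.take (F.length - (c + 1)) with hl₁
    have hp : l.Perm (l₁ ++ l₂) := by
      rw [hl₁, List.append_assoc, hl₂, List.take_append_drop]
      exact (List.filter_append_perm _ l).symm.trans List.perm_append_comm
    have hd := hperm r x hx l _ hp hlT
    have hz : run B l₂ x = 0 := run_eq_zero (c + 1) l₂ (by simp [hl₂]; omega)
      (fun t ht => by
        have ht' := List.mem_of_mem_drop ht
        rw [hF, List.mem_filter, decide_eq_true_eq] at ht'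
        exact ht'.2 ▸ hf t (hlT t ht'.1)) x (by rw [hU i]; trivial)
    rwa [run_append, hz, run_zero, sub_zero] at hd

/-- A solvable chain of sets covered by few ad-nilpotent sets acts nilpotently. -/
theorem ker_chain (hB : IsLie B) {ι : Type*} [Fintype ι] (U : ι → Set L) (c : ℕ)
    (hU : ∀ i, Ker B (U i) (c + 1) = ⊤) : ∀ (s : ℕ) (T : ℕ → Set L),
    (∀ j, ∀ t ∈ T j, ∃ i, t ∈ U i) → (∀ j, T (j + 1) ⊆ T j) →
    (∀ j, ∀ t ∈ T j, ∀ u ∈ T j, B t u ∈ AddSubgroup.closure (T (j + 1))) →
    (∀ t ∈ T s, t = 0) → Ker B (T 0) ((Fintype.card ι * c + 1) ^ s) = ⊤ := by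
  intro s
  induction s with
  | zero =>
    intro T _ _ _ h0
    rw [pow_zero]
    exact top_le_iff.1 fun x _ => mem_ker_succ.2 fun t ht => by simp [h0 t ht]
  | succ s ih =>
    intro T hcov hsub hbr h0
    have := ker_step hB U c hU (hcov 0) (hsub 0) (hbr 0)
      (ih (fun j => T (j + 1)) (fun j => hcov _) (fun j => hsub _) (fun j => hbr _) h0)
    rwa [← pow_succ] at this

section Graded

variable {p : ℕ}

/-- A multiplicative grading, with arbitrary zero component. -/
def IsMul (B : L →+ L →+ L) (D : ZMod p → AddSubgroup L) : Prop :=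
  ∀ (a b : ZMod p) (x y : L), x ∈ D a → y ∈ D b → B x y ∈ D (a + b)

variable {D : ZMod p → AddSubgroup L}

theorem ds_succ_le (hD : IsMul B D) : ∀ (n : ℕ) (k : ZMod p), DS B D (n + 1) k ≤ DS B D n k := by
  intro n
  induction n with
  | zero =>
    intro k
    refine (AddSubgroup.closure_le _).mpr ?_
    rintro _ ⟨a, b, x, y, hx, hy, rfl, rfl⟩
    exact hD a b x y hx hy
  | succ n ih =>
    intro k
    refine (AddSubgroup.closure_le _).mpr ?_
    rintro _ ⟨a, b, x, y, hx, hy, rfl, rfl⟩
    exact AddSubgroup.subset_closure ⟨a, b, x, y, ih a hx, ih b hy, rfl, rfl⟩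

theorem ds_le (hD : IsMul B D) : ∀ (n : ℕ) (k : ZMod p), DS B D n k ≤ D k := by
  intro n
  induction n with
  | zero => exact fun k => le_rfl
  | succ n ih => exact fun k => (ds_succ_le hD n k).trans (ih k)

theorem ds_isMul (hD : IsMul B D) (n : ℕ) : IsMul B (DS B D n) := fun a b x y hx hy =>
  ds_succ_le hD n _ (AddSubgroup.subset_closure ⟨a, b, x, y, hx, hy, rfl, rfl⟩)

theorem mem_of_word (hD : IsMul B D) {S : ZMod p → Set L} (hS : ∀ k, S k ⊆ D k) :
    ∀ (m : ℕ) (k : ZMod p), W B S m k ⊆ D k := by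
  intro m
  induction m with
  | zero => exact hS
  | succ m ih =>
    rintro _ _ ⟨i, j, x, y, hx, hy, rfl, rfl⟩
    exact hD _ _ _ _ (hS i hx) (ih j hy)

theorem H_stable (hB : IsLie B) (hD : IsMul B D) {z : L} (hz : z ∈ D 0) (s : ℕ) :
    ∀ k, ∀ x ∈ H B D s k, B z x ∈ H B D s k := by
  intro k
  refine fun x hx => (AddSubgroup.closure_le ((H B D s k).comap (B z))).2
    (Set.iUnion_subset fun m => ?_) hx
  clear hx x
  induction m generalizing k with
  | zero =>
    intro x hx
    refine AddSubgroup.subset_closure (Set.mem_iUnion.2 ⟨0, hx.1, ?_⟩)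
    simpa using hD 0 k z x hz hx.2
  | succ m ih =>
    rintro _ ⟨i, j, x, y, hx, hy, rfl, rfl⟩
    show B z (B x y) ∈ H B D s (i + j)
    rw [hB.jacobi]
    refine add_mem (AddSubgroup.subset_closure (Set.mem_iUnion.2
      ⟨m + 1, i, j, B z x, y, ⟨hx.1, by simpa using hD 0 i z x hz hx.2⟩, hy, rfl, rfl⟩)) ?_
    refine (AddSubgroup.closure_le ((H B D s (i + j)).comap (B x))).2
      (Set.iUnion_subset fun m' v hv => ?_) (ih j hy : B z y ∈ H B D s j)
    exact AddSubgroup.subset_closure (Set.mem_iUnion.2 ⟨m' + 1, i, j, x, v, hx, hv, rfl, rfl⟩)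

/-- The lower central terms of the zero component. -/
def Pow (B : L →+ L →+ L) (Z S : Set L) : ℕ → AddSubgroup L
  | 0 => AddSubgroup.closure S
  | r + 1 => AddSubgroup.closure {z | ∃ t ∈ Z, ∃ y ∈ Pow B Z S r, B t y = z}

theorem pow_le_ker {Z S : Set L} {n : ℕ} (hn : Ker B Z n = ⊤) : Pow B Z S n = ⊥ := by
  have h : ∀ r, ∀ q, q + r = n → Pow B Z S r ≤ Ker B Z q := by
    intro r
    induction r with
    | zero => intro q hq; rw [Nat.add_zero] at hq; rw [hq, hn]; exact le_top
    | succ r ih =>
      intro q hq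
      refine (AddSubgroup.closure_le _).2 ?_
      rintro _ ⟨t, ht, y, hy, rfl⟩
      exact mem_ker_succ.1 (ih (q + 1) (by omega) hy) t ht
  exact le_bot_iff.1 (h n 0 (Nat.zero_add n))

/-- The number of derived steps. -/
def fK (n : ℕ) : ℕ → ℕ
  | 0 => n
  | s + 1 => n * (fK n s + 1) + fK n s

variable [hp : Fact p.Prime]

theorem kreknin_gen (hB : IsLie B) (n : ℕ) : ∀ (s : ℕ), s ≤ p - 1 →
    ∀ (D : ZMod p → AddSubgroup L), IsMul B D → Ker B (D 0 : Set L) n = ⊤ →
      ∀ k, DS B D (fK n s) k ≤ H B D s k := by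
  haveI : NeZero p := ⟨hp.out.ne_zero⟩
  intro s
  induction s with
  | zero =>
    intro _ D hD hn k
    set Z : Set L := (D 0 : Set L) with hZ
    have hpos : ∀ k ≠ (0 : ZMod p), D k ≤ H B D 0 k := fun k hk x hx =>
      AddSubgroup.subset_closure (Set.mem_iUnion.2
        ⟨0, Nat.pos_of_ne_zero fun h => hk ((ZMod.val_eq_zero k).1 h), hx⟩)
    rcases eq_or_ne k 0 with rfl | hk
    swap
    · exact (ds_le hD _ k).trans (hpos k hk)
    have key : ∀ j, DS B D j 0 ≤ H B D 0 0 ⊔ Pow B Z Z j := by
      intro j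
      induction j with
      | zero => exact le_sup_of_le_right AddSubgroup.subset_closure
      | succ j ih =>
        refine (AddSubgroup.closure_le _).2 ?_
        rintro _ ⟨a, b, x, y, hx, hy, hab, rfl⟩
        rcases eq_or_ne a 0 with rfl | ha
        · rw [zero_add] at hab
          subst hab
          have hxD : x ∈ D 0 := ds_le hD _ 0 hx
          obtain ⟨u, hu, v, hv, rfl⟩ := AddSubgroup.mem_sup.1 (ih hy)
          rw [map_add]
          exact add_mem (AddSubgroup.mem_sup_left (H_stable hB hD hxD 0 0 u hu))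
            (AddSubgroup.mem_sup_right (AddSubgroup.subset_closure ⟨x, hxD, v, hv, rfl⟩))
        · have hb : b ≠ 0 := by rintro rfl; exact ha (by simpa using hab)
          refine AddSubgroup.mem_sup_left (AddSubgroup.subset_closure (Set.mem_iUnion.2
            ⟨1, a, b, x, y, ⟨Nat.pos_of_ne_zero fun h => ha ((ZMod.val_eq_zero a).1 h),
              ds_le hD _ a hx⟩, ⟨Nat.pos_of_ne_zero fun h => hb ((ZMod.val_eq_zero b).1 h),
              ds_le hD _ b hy⟩, hab, rfl⟩))
    refine (key _).trans ?_
    rw [show fK n 0 = n from rfl, pow_le_ker hn, sup_bot_eq]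
  | succ s ih =>
    intro hs D hD hn
    set t : ZMod p := ((s + 1 : ℕ) : ZMod p) with ht
    have htv : t.val = s + 1 := ZMod.val_natCast_of_lt (by omega)
    set g := fK n s + 1 with hg
    set Z : Set L := (D 0 : Set L) with hZ
    -- the degree `s + 1` part, one step
    have claim : ∀ q, DS B D (q + g) t ≤ H B D (s + 1) t ⊔ AddSubgroup.closure
        {z | ∃ u ∈ Z, ∃ y ∈ DS B D q t, B u y = z} := by
      intro q
      set E := DS B D q with hE
      have hEm : IsMul B E := ds_isMul hD q
      have hEn : Ker B (E 0 : Set L) n = ⊤ :=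
        top_le_iff.1 (hn.ge.trans (ker_anti (ds_le hD q 0) n))
      rw [← DS_add, ← hE, hg]
      refine (AddSubgroup.closure_le _).2 ?_
      rintro _ ⟨a, b, u, v, hu, hv, hab, rfl⟩
      refine closure_bracket_mem (fun u' hu' v' hv' => ?_)
        (ih (by omega) E hEm hEn a hu) (ih (by omega) E hEm hEn b hv)
      obtain ⟨m₁, h₁⟩ := Set.mem_iUnion.mp hu'
      obtain ⟨m₂, h₂⟩ := Set.mem_iUnion.mp hv'
      refine (AddSubgroup.closure_le _).mpr ?_ (bracket_word hB _ m₁ m₂ a b u' v' h₁ h₂)
      rintro _ ⟨i, j, y, z, ⟨hi, hy⟩, hz, hij, rfl⟩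
      rw [hab] at hij
      have hzE : z ∈ E j := mem_of_word hEm (fun _ _ h => h.2) _ j hz
      rcases eq_or_ne i t with rfl | hit
      · have hj : j = 0 := by simpa using hij
        subst hj
        rw [hB.anti]
        exact neg_mem (AddSubgroup.mem_sup_right (AddSubgroup.subset_closure
          ⟨z, ds_le hD q 0 hzE, y, hy, rfl⟩))
      have hi' : s + 1 < i.val := by
        have : i.val ≠ s + 1 := fun h => hit (ZMod.val_injective p (h.trans htv.symm))
        omega
      have hj' : s + 1 < j.val := by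
        have hval := ZMod.val_add i j
        rw [hij, htv] at hval
        have h1 := ZMod.val_lt i
        have h2 := ZMod.val_lt j
        rcases Nat.lt_or_ge (i.val + j.val) p with h | h
        · rw [Nat.mod_eq_of_lt h] at hval; omega
        · rw [Nat.mod_eq_sub_mod h, Nat.mod_eq_of_lt (by omega)] at hval; omega
      exact AddSubgroup.mem_sup_left (AddSubgroup.subset_closure (Set.mem_iUnion.mpr
        ⟨1, i, j, y, z, ⟨hi', ds_le hD q i hy⟩, ⟨hj', ds_le hD q j hzE⟩, hij, rfl⟩))
    have iter : ∀ r, DS B D (r * g) t ≤ H B D (s + 1) t ⊔ Pow B Z (D t : Set L) r := by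
      intro r
      induction r with
      | zero => rw [Nat.zero_mul]; exact le_sup_of_le_right AddSubgroup.subset_closure
      | succ r ihr =>
        rw [Nat.succ_mul]
        refine (claim _).trans (sup_le le_sup_left ((AddSubgroup.closure_le _).2 ?_))
        rintro _ ⟨u, hu, y, hy, rfl⟩
        obtain ⟨h, hh, v, hv, rfl⟩ := AddSubgroup.mem_sup.1 (ihr hy)
        rw [map_add]
        exact add_mem (AddSubgroup.mem_sup_left (H_stable hB hD hu _ t h hh))
          (AddSubgroup.mem_sup_right (AddSubgroup.subset_closure ⟨u, hu, v, hv, rfl⟩))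
    have hQ : DS B D (n * g) t ≤ H B D (s + 1) t := by
      refine (iter n).trans ?_
      rw [pow_le_ker hn, sup_bot_eq]
    have hstep : ∀ k, H B (DS B D (n * g)) s k ≤ H B D (s + 1) k := by
      refine H_mono hB fun i hi x hx => ?_
      rcases eq_or_ne i t with rfl | hit
      · exact hQ hx
      · refine AddSubgroup.subset_closure (Set.mem_iUnion.mpr ⟨0, ?_, ds_le hD _ i hx⟩)
        have : i.val ≠ s + 1 := fun h => hit (ZMod.val_injective p (h.trans htv.symm))
        omega
    intro k
    have h := ih (by omega) (DS B D (n * g)) (ds_isMul hD _)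
      (top_le_iff.1 (hn.ge.trans (ker_anti (ds_le hD _ 0) n))) k
    rw [DS_add] at h
    exact h.trans (hstep k)

/-- Kreknin's theorem with a zero component acting nilpotently. -/
theorem ds_eq_bot (hB : IsLie B) {n : ℕ} (hD : IsMul B D) (hn : Ker B (D 0 : Set L) n = ⊤)
    (k : ZMod p) : DS B D (fK n (p - 1)) k = ⊥ := by
  haveI : NeZero p := ⟨hp.out.ne_zero⟩
  have hempty : ∀ m i, W B (fun i => {x | p - 1 < i.val ∧ x ∈ D i}) m i = ∅ := by
    intro m
    induction m with
    | zero =>
      intro i
      refine Set.eq_empty_iff_forall_notMem.mpr fun x hx => ?_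
      have := ZMod.val_lt i
      have h := hx.1
      omega
    | succ m ih =>
      intro i
      refine Set.eq_empty_iff_forall_notMem.mpr ?_
      rintro _ ⟨a, b, x, y, -, hy, -, rfl⟩
      rw [ih b] at hy
      exact hy
  refine le_bot_iff.mp ((kreknin_gen hB n (p - 1) le_rfl D hD hn k).trans ?_)
  exact (AddSubgroup.closure_le _).mpr
    (Set.iUnion_subset fun m => by rw [hempty m k]; exact Set.empty_subset _)

end Graded

end Cfsg.Agent.KS24
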