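import Cfsg.Agent.KS24.Ring

/-!
The theorem of Khukhro and Shumyatsky on fixed points of elementary abelian groups of automorphisms:
special subgroups and the assembly.
-/

set_option autoImplicit false

namespace Cfsg.Agent.KS24

open scoped commutatorElement

variable {A G : Type*} [CommGroup A] [Group G]

/-- The action restricted to an invariant subgroup. -/
def resAct (φ : A →* MulAut G) (N : Subgroup G) (hN : Inv φ N) : A →* MulAut N where
  toFun a :=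
    { toFun := fun x => ⟨φ a x, hN.mem a x.2⟩
      invFun := fun x => ⟨φ a⁻¹ x, hN.mem a⁻¹ x.2⟩
      left_inv := fun x => Subtype.ext (by simp)
      right_inv := fun x => Subtype.ext (by simp)
      map_mul' := fun x y => Subtype.ext (map_mul (φ a) (x : G) y) }
  map_one' := MulEquiv.ext fun x => Subtype.ext (by simp)
  map_mul' a b := MulEquiv.ext fun x => Subtype.ext (by simp)

theorem commutator_le_of_pieces {X Y : Set (Subgroup G)} {T : Subgroup G}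
    (hX : ∀ J ∈ X, J ≤ Subgroup.normalizer (T : Set G))
    (hY : ∀ J ∈ Y, J ≤ Subgroup.normalizer (T : Set G))
    (h : ∀ J ∈ X, ∀ K ∈ Y, ⁅J, K⁆ ≤ T) : ⁅sSup X, sSup Y⁆ ≤ T := by
  have key : ∀ (x : G) (Z : Set (Subgroup G)), (∀ K ∈ Z, K ≤ Subgroup.normalizer (T : Set G)) →
      (∀ K ∈ Z, ∀ y ∈ K, ⁅x, y⁆ ∈ T) → ∀ y ∈ sSup Z, ⁅x, y⁆ ∈ T := by
    intro x Z hZ hx
    let S : Subgroup G :=
      { carrier := {y | y ∈ Subgroup.normalizer (T : Set G) ∧ ⁅x, y⁆ ∈ T}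
        one_mem' := ⟨one_mem _, by simp⟩
        mul_mem' := fun {y y'} hy hy' => ⟨mul_mem hy.1 hy'.1, by
          rw [show ⁅x, y * y'⁆ = ⁅x, y⁆ * (y * ⁅x, y'⁆ * y⁻¹) by
            simp [commutatorElement_def, mul_assoc]]
          exact mul_mem hy.2 ((Subgroup.mem_normalizer_iff.1 hy.1 _).1 hy'.2)⟩
        inv_mem' := fun {y} hy => ⟨inv_mem hy.1, by
          rw [show ⁅x, y⁻¹⁆ = y⁻¹ * ⁅x, y⁆⁻¹ * y⁻¹⁻¹ by simp [commutatorElement_def, mul_assoc]]
          exact (Subgroup.mem_normalizer_iff.1 (inv_mem hy.1) _).1 (inv_mem hy.2)⟩ }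
    exact fun y hy => ((sSup_le fun K hK z hz => ⟨hZ K hK hz, hx K hK z hz⟩ : sSup Z ≤ S) hy).2
  refine Subgroup.commutator_le.2 fun x hx y hy => ?_
  rw [← commutatorElement_inv]
  refine inv_mem (key y X hX (fun J hJ z hz => ?_) x hx)
  rw [← commutatorElement_inv]
  exact inv_mem (key z Y hY (fun K hK w hw => h J hJ K hK
    (Subgroup.commutator_mem_commutator hz hw)) y hy)

theorem le_normalizer_sSup {Y : Set (Subgroup G)} {J : Subgroup G}
    (h : ∀ F ∈ Y, ⁅J, F⁆ ≤ sSup Y) : J ≤ Subgroup.normalizer ((sSup Y : Subgroup G) : Set G) := by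
  refine Subgroup.le_normalizer_iff.mpr fun j hj f hf => ?_
  refine (sSup_le fun F hF z hz => ?_ :
    sSup Y ≤ (sSup Y).comap ((MulAut.conj j : G ≃* G) : G →* G)) hf
  show j * z * j⁻¹ ∈ sSup Y
  rw [show j * z * j⁻¹ = ⁅j, z⁆ * z by simp [commutatorElement_def]]
  exact mul_mem (h F hF (Subgroup.commutator_mem_commutator hj hz)) (le_sSup hF hz)

theorem card_of_index {p k i : ℕ} [hp : Fact p.Prime] [Finite A] (hA : Nat.card A = p ^ k)
    {R : Subgroup A} (h : R.index ≤ p ^ i) (hi : i + 2 ≤ k) : p ^ 2 ≤ Nat.card R := by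
  have h1 := R.card_mul_index
  rw [hA] at h1
  have hpos : 0 < p := hp.out.pos
  by_contra hlt
  push Not at hlt
  have h2 : p ^ k < p ^ 2 * p ^ i := by
    rw [← h1]
    calc Nat.card R * R.index ≤ Nat.card R * p ^ i := Nat.mul_le_mul_left _ h
      _ < p ^ 2 * p ^ i := Nat.mul_lt_mul_of_pos_right hlt (pow_pos hpos i)
  rw [← pow_add] at h2
  exact absurd h2 (not_lt.2 (Nat.pow_le_pow_right hpos (by omega)))

variable (φ : A →* MulAut G) (p : ℕ)

/-- The special subgroups for the derived series. -/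
def SD : ℕ → Set (Subgroup G)
  | 0 => {J | ∃ B : Subgroup A, B.index ≤ p ∧ J = CB φ B}
  | i + 1 => {J | ∃ J₁ ∈ SD i, ∃ J₂ ∈ SD i, ∃ B : Subgroup A, B.index ≤ p ∧ J = ⁅J₁, J₂⁆ ⊓ CB φ B}

/-- The special subgroups for the lower central series. -/
def SG : ℕ → Set (Subgroup G)
  | 0 => {J | ∃ B : Subgroup A, B.index ≤ p ∧ J = CB φ B}
  | i + 1 => {J | ∃ J₁ ∈ SG i, ∃ B' : Subgroup A, B'.index ≤ p ∧
      ∃ B : Subgroup A, B.index ≤ p ∧ J = ⁅J₁, CB φ B'⁆ ⊓ CB φ B}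

variable {φ p}

theorem sd_inv : ∀ i, ∀ J ∈ SD φ p i, Inv φ J := by
  intro i
  induction i with
  | zero => rintro _ ⟨B, -, rfl⟩; exact inv_CB B
  | succ i ih =>
    rintro _ ⟨J₁, h₁, J₂, h₂, B, -, rfl⟩
    exact ((ih _ h₁).bracket (ih _ h₂)).inf (inv_CB B)

theorem sg_inv : ∀ i, ∀ J ∈ SG φ p i, Inv φ J := by
  intro i
  induction i with
  | zero => rintro _ ⟨B, -, rfl⟩; exact inv_CB B
  | succ i ih =>
    rintro _ ⟨J₁, h₁, B', -, B, -, rfl⟩
    exact ((ih _ h₁).bracket (inv_CB B')).inf (inv_CB B)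

theorem sd_mono : ∀ i, ∀ J ∈ SD φ p (i + 1), ∃ J' ∈ SD φ p i, J ≤ J' := by
  intro i
  induction i with
  | zero =>
    rintro _ ⟨J₁, h₁, J₂, h₂, B, hB, rfl⟩
    exact ⟨CB φ B, ⟨B, hB, rfl⟩, inf_le_right⟩
  | succ i ih =>
    rintro _ ⟨J₁, h₁, J₂, h₂, B, hB, rfl⟩
    obtain ⟨J₁', h₁', le₁⟩ := ih _ h₁
    obtain ⟨J₂', h₂', le₂⟩ := ih _ h₂
    exact ⟨_, ⟨J₁', h₁', J₂', h₂', B, hB, rfl⟩,
      inf_le_inf_right _ (Subgroup.commutator_mono le₁ le₂)⟩

theorem sg_mono : ∀ i, ∀ J ∈ SG φ p (i + 1), ∃ J' ∈ SG φ p i, J ≤ J' := by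
  intro i
  induction i with
  | zero =>
    rintro _ ⟨J₁, h₁, B', hB', B, hB, rfl⟩
    exact ⟨CB φ B, ⟨B, hB, rfl⟩, inf_le_right⟩
  | succ i ih =>
    rintro _ ⟨J₁, h₁, B', hB', B, hB, rfl⟩
    obtain ⟨J₁', h₁', le₁⟩ := ih _ h₁
    exact ⟨_, ⟨J₁', h₁', B', hB', B, hB, rfl⟩,
      inf_le_inf_right _ (Subgroup.commutator_mono le₁ le_rfl)⟩

theorem sg_le_CB : ∀ i, ∀ J ∈ SG φ p i, ∃ B : Subgroup A, B.index ≤ p ∧ J ≤ CB φ B := by
  rintro (_ | i)
  · rintro _ ⟨B, hB, rfl⟩; exact ⟨B, hB, le_rfl⟩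
  · rintro _ ⟨J₁, h₁, B', hB', B, hB, rfl⟩; exact ⟨B, hB, inf_le_right⟩

theorem sd_rank : ∀ i, ∀ J ∈ SD φ p i, ∃ R : Subgroup A, R.index ≤ p ^ 2 ^ i ∧
    ∀ a ∈ R, J ≤ dser (Cel φ a) i := by
  intro i
  induction i with
  | zero =>
    rintro _ ⟨B, hB, rfl⟩
    exact ⟨B, by simpa using hB, fun a ha => CB_le ha⟩
  | succ i ih =>
    rintro _ ⟨J₁, h₁, J₂, h₂, B, -, rfl⟩
    obtain ⟨R₁, i₁, e₁⟩ := ih _ h₁
    obtain ⟨R₂, i₂, e₂⟩ := ih _ h₂
    refine ⟨R₁ ⊓ R₂, Subgroup.index_inf_le.trans ((Nat.mul_le_mul i₁ i₂).trans_eq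
      (by rw [← pow_add, pow_succ, mul_two])), fun a ha => inf_le_left.trans ?_⟩
    exact Subgroup.commutator_mono (e₁ a ha.1) (e₂ a ha.2)

theorem sg_rank : ∀ i, ∀ J ∈ SG φ p i, ∃ R : Subgroup A, R.index ≤ p ^ (i + 1) ∧
    ∀ a ∈ R, J ≤ (Cel φ a).lowerCentralSeries i := by
  intro i
  induction i with
  | zero =>
    rintro _ ⟨B, hB, rfl⟩
    exact ⟨B, by simpa using hB, fun a ha => CB_le ha⟩
  | succ i ih =>
    rintro _ ⟨J₁, h₁, B', hB', B, -, rfl⟩
    obtain ⟨R₁, i₁, e₁⟩ := ih _ h₁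
    refine ⟨R₁ ⊓ B', Subgroup.index_inf_le.trans ((Nat.mul_le_mul i₁ hB').trans_eq
      (by rw [← pow_succ])), fun a ha => inf_le_left.trans ?_⟩
    exact Subgroup.commutator_mono (e₁ a ha.1) (CB_le ha.2)

section Finite

variable [Finite A] [Finite G] [hp : Fact p.Prime]

theorem sd_gen (hexp : ∀ a : A, a ^ p = 1) (hG : (Nat.card G).Coprime p) :
    ∀ i, sSup (SD φ p i) = dser (⊤ : Subgroup G) i := by
  intro i
  induction i with
  | zero =>
    refine le_antisymm (sSup_le fun _ _ => le_top) ?_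
    refine le_of_hyper hexp hG (inv_top (φ := φ)) ⊤ fun B _ hB => inf_le_right.trans ?_
    rw [Subgroup.relIndex_top_right] at hB
    exact le_sSup ⟨B, hB, rfl⟩
  | succ i ih =>
    refine le_antisymm (sSup_le ?_) ?_
    · rintro _ ⟨J₁, h₁, J₂, h₂, B, -, rfl⟩
      exact inf_le_left.trans (Subgroup.commutator_mono (ih ▸ le_sSup h₁) (ih ▸ le_sSup h₂))
    have hpair : ∀ J₁ ∈ SD φ p i, ∀ J₂ ∈ SD φ p i, ⁅J₁, J₂⁆ ≤ sSup (SD φ p (i + 1)) :=
      fun J₁ h₁ J₂ h₂ => le_of_hyper hexp hG ((sd_inv i _ h₁).bracket (sd_inv i _ h₂)) ⊤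
        fun B _ hB => le_sSup ⟨J₁, h₁, J₂, h₂, B, Subgroup.relIndex_top_right (H := B) ▸ hB, rfl⟩
    have hnorm : ∀ J ∈ SD φ p i, J ≤ Subgroup.normalizer
        ((sSup (SD φ p (i + 1)) : Subgroup G) : Set G) := fun J hJ =>
      le_normalizer_sSup fun F hF => by
        obtain ⟨F', hF', hle⟩ := sd_mono i F hF
        exact (Subgroup.commutator_mono le_rfl hle).trans (hpair J hJ F' hF')
    rw [dser, ← ih]
    exact commutator_le_of_pieces hnorm hnorm hpair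

theorem sg_gen (hexp : ∀ a : A, a ^ p = 1) (hG : (Nat.card G).Coprime p) :
    ∀ i, sSup (SG φ p i) = (⊤ : Subgroup G).lowerCentralSeries i := by
  intro i
  induction i with
  | zero =>
    refine le_antisymm (sSup_le fun _ _ => le_top) ?_
    refine le_of_hyper hexp hG (inv_top (φ := φ)) ⊤ fun B _ hB => inf_le_right.trans ?_
    rw [Subgroup.relIndex_top_right] at hB
    exact le_sSup ⟨B, hB, rfl⟩
  | succ i ih =>
    refine le_antisymm (sSup_le ?_) ?_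
    · rintro _ ⟨J₁, h₁, B', -, B, -, rfl⟩
      exact inf_le_left.trans (Subgroup.commutator_mono (ih ▸ le_sSup h₁) le_top)
    set Y : Set (Subgroup G) := {J | ∃ B : Subgroup A, B.index ≤ p ∧ J = CB φ B}
    have hY : sSup Y = ⊤ := by
      refine top_le_iff.1 (le_of_hyper hexp hG (inv_top (φ := φ)) ⊤ fun B _ hB =>
        inf_le_right.trans ?_)
      rw [Subgroup.relIndex_top_right] at hB
      exact le_sSup ⟨B, hB, rfl⟩
    have hpair : ∀ J₁ ∈ SG φ p i, ∀ K ∈ Y, ⁅J₁, K⁆ ≤ sSup (SG φ p (i + 1)) := by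
      rintro J₁ h₁ _ ⟨B', hB', rfl⟩
      exact le_of_hyper hexp hG ((sg_inv i _ h₁).bracket (inv_CB B')) ⊤ fun B _ hB =>
        le_sSup ⟨J₁, h₁, B', hB', B, Subgroup.relIndex_top_right (H := B) ▸ hB, rfl⟩
    have hnormY : ∀ K ∈ Y, K ≤ Subgroup.normalizer
        ((sSup (SG φ p (i + 1)) : Subgroup G) : Set G) := fun K hK =>
      le_normalizer_sSup fun F hF => by
        obtain ⟨F', hF', hle⟩ := sg_mono i F hF
        rw [Subgroup.commutator_comm]
        exact (Subgroup.commutator_mono hle le_rfl).trans (hpair F' hF' K hK)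
    have hnormX : ∀ J ∈ SG φ p i, J ≤ Subgroup.normalizer
        ((sSup (SG φ p (i + 1)) : Subgroup G) : Set G) := fun J hJ => by
      refine le_top.trans (hY.ge.trans (sSup_le hnormY))
    show ⁅(⊤ : Subgroup G).lowerCentralSeries i, (⊤ : Subgroup G)⁆ ≤ _
    rw [← ih, ← hY]
    exact commutator_le_of_pieces hnormX hnormY hpair

omit hp in
theorem sd_closed (d : ℕ) : ∀ J ∈ SD φ p d, ∀ J' ∈ SD φ p d, ∀ B : Subgroup A, B.index ≤ p →
    ∃ J'' ∈ SD φ p d, ⁅J, J'⁆ ⊓ CB φ B ≤ J'' :=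
  fun J hJ J' hJ' B hB => sd_mono d _ ⟨J, hJ, J', hJ', B, hB, rfl⟩

omit hp in
theorem sg_closed (m : ℕ) : ∀ J ∈ SG φ p m, ∀ J' ∈ SG φ p m, ∀ B : Subgroup A, B.index ≤ p →
    ∃ J'' ∈ SG φ p m, ⁅J, J'⁆ ⊓ CB φ B ≤ J'' := by
  intro J hJ J' hJ' B hB
  obtain ⟨B', hB', hle⟩ := sg_le_CB m J' hJ'
  obtain ⟨J'', hJ'', hle''⟩ := sg_mono m _ ⟨J, hJ, B', hB', B, hB, rfl⟩
  exact ⟨J'', hJ'', (inf_le_inf_right _ (Subgroup.commutator_mono le_rfl hle)).trans hle''⟩

/-- The class bound in the ambient group. -/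
theorem main_bound (hexp : ∀ a : A, a ^ p = 1) (hA : p ^ 3 ≤ Nat.card A)
    (hG : (Nat.card G).Coprime p) {c s : ℕ} (E : A → Subgroup G) (hE : Sys φ c E)
    (hs : ∀ a : A, a ≠ 1 → dser (Cel φ a) s = ⊥)
    (N : Subgroup G) [N.Normal] (hNi : Inv φ N) (spec : Set (Subgroup G)) (hgen : sSup spec = N)
    (hC : Cover φ p E spec) : N.lowerCentralSeries (bnd p (Nat.card A) c s) = ⊥ := by
  have hsol : Group.IsSolvable G :=
    isSolvable_of_fixed hexp hA hG fun a ha => isSolvable_of_dser (hs a ha)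
  haveI : Group.IsNilpotent N :=
    isNilpotent_of_cover hexp (Nat.card G) G rfl hG hsol φ E hE N inferInstance hNi spec hgen.symm
      hC.rank
  obtain ⟨a, ha⟩ : ∃ a : A, a ≠ 1 := by
    haveI : Nontrivial A := Finite.one_lt_card_iff_nontrivial.1 (lt_of_lt_of_le
      (Nat.one_lt_pow (by norm_num) hp.out.one_lt) hA)
    exact exists_ne 1
  let ψ := resAct φ N hNi
  have hval : ∀ (b : A) (x : N), ((ψ b x : N) : G) = φ b x := fun _ _ => rfl
  have hcel : ∀ b, (Cel ψ b).map N.subtype ≤ Cel φ b := by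
    rintro b _ ⟨x, hx, rfl⟩
    exact congrArg Subtype.val (show ψ b x = x from hx)
  have hNG : (Nat.card N).Coprime p := hG.coprime_dvd_left (Subgroup.card_subgroup_dvd_card N)
  have hE' : Sys ψ c (fun b => (E b).subgroupOf N) := by
    refine ⟨fun b hb x hx => Subtype.ext (hE.le b hb hx), fun b hb g hg x hx => ?_, fun b hb => ?_⟩
    · exact hE.norm b hb _ (congrArg Subtype.val (show ψ b g = g from hg)) _ hx
    · refine Subgroup.map_injective N.subtype_injective (le_bot_iff.1 ?_ |>.trans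
        (Subgroup.map_bot _).symm)
      rw [map_lcs, ← hE.lcs b hb]
      exact Subgroup.lowerCentralSeries_mono c (by
        rintro _ ⟨x, hx, rfl⟩; exact hx)
  have hle : ∀ J ∈ spec, J ≤ N := fun J hJ => hgen ▸ le_sSup hJ
  have hC' : Cover ψ p (fun b => (E b).subgroupOf N) ((fun J => J.subgroupOf N) '' spec) := by
    refine ⟨?_, ?_, ?_⟩
    · rintro _ ⟨J, hJ, rfl⟩
      exact inv_of_mem fun b x hx => (hC.inv J hJ).mem b (x := (x : G)) hx
    · rintro _ ⟨J, hJ, rfl⟩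
      obtain ⟨R, hR, hRE⟩ := hC.rank J hJ
      exact ⟨R, hR, fun b hb hb1 x hx => hRE b hb hb1 hx⟩
    · rintro _ ⟨J, hJ, rfl⟩ _ ⟨J', hJ', rfl⟩ B hB
      obtain ⟨J'', hJ'', hle''⟩ := hC.closed J hJ J' hJ' B hB
      refine ⟨_, ⟨J'', hJ'', rfl⟩, fun x hx => hle'' ⟨?_, mem_CB.2 fun b hb => ?_⟩⟩
      · have h1 := Subgroup.mem_map_of_mem N.subtype hx.1
        rw [Subgroup.map_commutator] at h1
        exact Subgroup.commutator_mono (Subgroup.map_le_iff_le_comap.2 le_rfl)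
          (Subgroup.map_le_iff_le_comap.2 le_rfl) h1
      · exact congrArg Subtype.val (mem_CB.1 hx.2 b hb)
  have hgen' : sSup ((fun J => J.subgroupOf N) '' spec) = (⊤ : Subgroup N) := by
    refine Subgroup.map_injective N.subtype_injective ?_
    rw [← MonoidHom.range_eq_map, Subgroup.range_subtype]
    refine le_antisymm (Subgroup.map_subtype_le _) ?_
    conv_lhs => rw [← hgen]
    refine sSup_le fun J hJ x hx => ⟨⟨x, hle J hJ hx⟩, ?_, rfl⟩
    exact (le_sSup (Set.mem_image_of_mem _ hJ) :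
      J.subgroupOf N ≤ sSup ((fun J => J.subgroupOf N) '' spec)) hx
  have hs' : dser (Cel ψ a) s = ⊥ := by
    refine Subgroup.map_injective N.subtype_injective (le_bot_iff.1 ?_ |>.trans
      (Subgroup.map_bot _).symm)
    rw [map_dser, ← hs a ha]
    exact dser_mono (hcel a) s
  have h := class_bound (φ := ψ) hexp hNG hE' hC' hgen' hs'
  have h2 := congrArg (Subgroup.map N.subtype) h
  rwa [Subgroup.map_bot, map_lcs, ← MonoidHom.range_eq_map, Subgroup.range_subtype] at h2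

end Finite

end Cfsg.Agent.KS24
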