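import Cfsg.Agent.KS24.Basic
import Cfsg.Agent.Lib.Transfer.Hall
import Cfsg.Agent.SFT49.Complete
import Mathlib.GroupTheory.GroupAction.Quotient

/-!
Solvability, and nilpotence of a normal subgroup covered by nilpotent pieces of centralisers.
-/

set_option autoImplicit false

universe u

namespace Cfsg.Agent.KS24

open scoped commutatorElement

variable {A G : Type*} [CommGroup A] [Group G]

/-- Nilpotent subgroups of bounded class of the fixed-point subgroups, normal there. -/
structure Sys (φ : A →* MulAut G) (c : ℕ) (E : A → Subgroup G) : Prop where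
  le : ∀ a, a ≠ 1 → E a ≤ Cel φ a
  norm : ∀ a, a ≠ 1 → ∀ g ∈ Cel φ a, ∀ x ∈ E a, g * x * g⁻¹ ∈ E a
  lcs : ∀ a, a ≠ 1 → (E a).lowerCentralSeries c = ⊥

theorem map_subtype_derivedSeries (H : Subgroup G) (n : ℕ) :
    (derivedSeries H n).map H.subtype = dser H n := by
  rw [← dser_top, map_dser, ← MonoidHom.range_eq_map, Subgroup.range_subtype]

theorem isSolvable_of_dser {H : Subgroup G} {n : ℕ} (h : dser H n = ⊥) : Group.IsSolvable H :=
  (Group.isSolvable_def _).mpr ⟨n, Subgroup.map_injective H.subtype_injective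
    (by rw [map_subtype_derivedSeries, h, Subgroup.map_bot])⟩

variable [Finite A] [Finite G] {p : ℕ} [hp : Fact p.Prime] {φ : A →* MulAut G}

/-- The group is solvable. -/
theorem isSolvable_of_fixed (hexp : ∀ a : A, a ^ p = 1) (hA : p ^ 3 ≤ Nat.card A)
    (hG : (Nat.card G).Coprime p) (h : ∀ a : A, a ≠ 1 → Group.IsSolvable (Cel φ a)) :
    Group.IsSolvable G := by
  let Γ := G ⋊[φ] A
  haveI : Finite Γ := Finite.of_equiv (G × A) SemidirectProduct.equivProd.symm
  let il : G →* Γ := SemidirectProduct.inl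
  let ir : A →* Γ := SemidirectProduct.inr
  have hinj : Function.Injective il := SemidirectProduct.inl_injective
  have hconj : ∀ (a : A) (g : G), il (φ a g) = ir a * il g * (ir a)⁻¹ := fun a g => by
    rw [← map_inv ir]; exact SemidirectProduct.inl_aut a g
  let θ : Γ → Subgroup Γ := fun γ => il.range ⊓ Subgroup.centralizer {γ}
  have hθeq : ∀ a, θ (ir a) = (Cel φ a).map il := by
    intro a
    refine le_antisymm ?_ ?_
    · rintro _ ⟨⟨g, rfl⟩, hc⟩
      refine ⟨g, hinj ?_, rfl⟩
      exact (hconj a g).trans (mul_inv_eq_of_eq_mul (Subgroup.mem_centralizer_iff.1 hc _ rfl))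
    · rintro _ ⟨g, hg, rfl⟩
      refine ⟨⟨g, rfl⟩, Subgroup.mem_centralizer_iff.2 fun y hy => ?_⟩
      rw [Set.mem_singleton_iff.1 hy]
      have h1 := hconj a g
      rw [show φ a g = g from hg] at h1
      exact eq_mul_inv_iff_mul_eq.1 h1 |>.symm
  have hEl : IsElementaryAbelian p ir.range := by
    refine ⟨⟨⟨fun x y => Subtype.ext ?_⟩⟩, ?_⟩
    · obtain ⟨a, ha⟩ := x.2
      obtain ⟨b, hb⟩ := y.2
      show (x : Γ) * y = y * x
      rw [← ha, ← hb, ← map_mul, mul_comm, map_mul]
    · rintro _ ⟨a, rfl⟩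
      rw [← map_pow, hexp, map_one]
  have hrk : p ^ 3 ≤ Nat.card ir.range :=
    hA.trans_eq (Nat.card_congr (MonoidHom.ofInjective
      (SemidirectProduct.inr_injective (φ := φ))).toEquiv)
  have hsig : IsSolvableSignalizerFunctor p ir.range θ := by
    refine ⟨⟨fun a _ _ => inf_le_right, fun a _ _ hd => ?_, ?_, ?_⟩, ?_⟩
    · have h1 : Nat.card il.range = Nat.card G :=
        (Nat.card_congr (MonoidHom.ofInjective hinj).toEquiv).symm
      have h2 := hd.trans (Subgroup.card_dvd_of_le (inf_le_left : θ a ≤ il.range))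
      rw [h1] at h2
      exact hp.out.coprime_iff_not_dvd.1 hG.symm h2
    · rintro a ha ha1 _ ⟨b, rfl⟩ x ⟨hx1, hx2⟩
      obtain ⟨g, rfl⟩ := hx1
      refine ⟨⟨φ b g, hconj b g⟩, Subgroup.mem_centralizer_iff.2 fun y hy => ?_⟩
      rw [Set.mem_singleton_iff.1 hy]
      have hab : Commute a (ir b) := by
        obtain ⟨a', rfl⟩ := ha
        exact (Commute.all a' b).map ir
      have hag : Commute a (il g) := Subgroup.mem_centralizer_iff.1 hx2 a rfl
      exact ((hab.mul_right hag).mul_right hab.inv_right).eq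
    · exact fun a _ _ b _ _ => le_inf (inf_le_left.trans inf_le_left) inf_le_right
    · rintro _ ⟨a, rfl⟩ ha1
      rw [hθeq]
      haveI := h a fun h1 => ha1 (by rw [h1, map_one])
      exact Group.isSolvable_of_surjective (f := il.subgroupMap (Cel φ a))
        (il.subgroupMap_surjective _)
  obtain ⟨W, hW, hle⟩ := SFT49.completable hEl hrk hsig
  have htop : (⊤ : Subgroup G) ≤ W.comap il := by
    refine le_of_elts hexp hG (inv_top (φ := φ)) ⊤ ?_ fun e _ he => ?_
    · rw [Subgroup.card_top]
      exact (Nat.pow_le_pow_right hp.out.pos (by norm_num)).trans hA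
    · intro g hg
      refine hle (ir e) ⟨e, rfl⟩ (fun h1 => he (SemidirectProduct.inr_injective
        (h1.trans (map_one ir).symm))) ?_
      rw [hθeq]
      exact Subgroup.mem_map_of_mem il hg.2
  haveI := hW.1
  exact Group.isSolvable_of_isSolvable_injective
    (f := il.codRestrict W fun g => htop (Subgroup.mem_top g))
    fun x y hxy => hinj (congrArg Subtype.val hxy)

omit [Finite A] hp in
/-- The action on a quotient. -/
def quotAct (φ : A →* MulAut G) (V : Subgroup G) [V.Normal] (hV : Inv φ V) :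
    A →* MulAut (G ⧸ V) where
  toFun a := QuotientGroup.congr V V (φ a) (Subgroup.eq_of_le_of_card_ge (hV a)
    (by rw [Subgroup.card_map_of_injective (φ a).injective]))
  map_one' := by
    refine MulEquiv.ext fun x => ?_
    induction x using QuotientGroup.induction_on with
    | H g => simp
  map_mul' a b := by
    refine MulEquiv.ext fun x => ?_
    induction x using QuotientGroup.induction_on with
    | H g => simp

omit [Finite A] hp in
theorem quotAct_mk (V : Subgroup G) [V.Normal] (hV : Inv φ V) (a : A) (g : G) :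
    quotAct φ V hV a (g : G ⧸ V) = ((φ a g : G) : G ⧸ V) := rfl

theorem map_lcs {H : Type*} [Group H] (f : G →* H) (K : Subgroup G) :
    ∀ n, (K.lowerCentralSeries n).map f = (K.map f).lowerCentralSeries n
  | 0 => rfl
  | n + 1 => by
    show (⁅K.lowerCentralSeries n, K⁆).map f = ⁅(K.map f).lowerCentralSeries n, K.map f⁆
    rw [Subgroup.map_commutator, map_lcs f K n]

/-- Nilpotence of a normal subgroup covered by pieces of the `E a`. -/
theorem isNilpotent_of_cover (hexp : ∀ a : A, a ^ p = 1) {c : ℕ} :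
    ∀ (n : ℕ) (G : Type u) [Group G] [Finite G], Nat.card G = n → (Nat.card G).Coprime p →
      Group.IsSolvable G → ∀ (φ : A →* MulAut G) (E : A → Subgroup G), Sys φ c E →
      ∀ (N : Subgroup G), N.Normal → Inv φ N → ∀ (spec : Set (Subgroup G)),
      N = sSup spec → (∀ J ∈ spec, ∃ R : Subgroup A, p ^ 2 ≤ Nat.card R ∧
        ∀ a ∈ R, a ≠ 1 → J ≤ E a) → Group.IsNilpotent N := by
  classical
  intro n
  induction n using Nat.strong_induction_on with
  | _ n IH =>
  intro G _ _ hn hG hsolv φ E hE N hNn hNi spec hgen hspec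
  haveI := hNn
  rcases eq_or_ne N ⊥ with rfl | hne
  · infer_instance
  haveI : Finite (Subgroup G) := inferInstance
  obtain ⟨V, ⟨hV1, hVn, hVi, hVN⟩, hmin⟩ := Set.Finite.exists_minimalFor id
    {V : Subgroup G | V ≠ ⊥ ∧ V.Normal ∧ Inv φ V ∧ V ≤ N} (Set.toFinite _)
    ⟨N, hne, hNn, hNi, le_rfl⟩
  haveI := hVn
  have hmin' : ∀ W : Subgroup G, W ≤ V → W.Normal → Inv φ W → W = ⊥ ∨ W = V := by
    intro W hW hWn hWi
    rcases eq_or_ne W ⊥ with h | h
    · exact Or.inl h
    · exact Or.inr (le_antisymm hW (hmin ⟨h, hWn, hWi, hW.trans hVN⟩ hW))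
  -- `V` is abelian
  haveI := hsolv
  have hab : ⁅V, V⁆ = ⊥ := by
    rcases hmin' ⁅V, V⁆ (Subgroup.commutator_le_self V) inferInstance (hVi.bracket hVi) with h | h
    · exact h
    exfalso
    obtain ⟨k, hk⟩ := (Group.isSolvable_def G).mp hsolv
    have : ∀ i, V ≤ derivedSeries G i := by
      intro i
      induction i with
      | zero => exact le_top
      | succ i ih => rw [derivedSeries_succ]; exact h.ge.trans (Subgroup.commutator_mono ih ih)
    exact hV1 (le_bot_iff.1 ((this k).trans hk.le))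
  have hVc : ∀ u ∈ V, ∀ v ∈ V, Commute u v := fun u hu v hv =>
    commutatorElement_eq_one_iff_mul_comm.1
      (Subgroup.mem_bot.1 (hab ▸ Subgroup.commutator_mem_commutator hu hv))
  -- of prime exponent
  obtain ⟨r, hr, hrV⟩ := Nat.exists_prime_and_dvd
    (show Nat.card V ≠ 1 from fun h => hV1 (Subgroup.card_eq_one.1 h))
  haveI := Fact.mk hr
  have hVr : ∀ v ∈ V, v ^ r = 1 := by
    let W : Subgroup G :=
      { carrier := {v | v ∈ V ∧ v ^ r = 1}
        one_mem' := ⟨one_mem _, one_pow _⟩
        mul_mem' := fun {u v} hu hv =>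
          ⟨mul_mem hu.1 hv.1, by rw [(hVc u hu.1 v hv.1).mul_pow, hu.2, hv.2, one_mul]⟩
        inv_mem' := fun hv => ⟨inv_mem hv.1, by rw [inv_pow, hv.2, inv_one]⟩ }
    have hWn : W.Normal := ⟨fun v hv g => ⟨hVn.conj_mem v hv.1 g, by
      rw [conj_pow, hv.2, mul_one, mul_inv_cancel]⟩⟩
    rcases hmin' W (fun v hv => hv.1) hWn
      (inv_of_mem fun a v hv => ⟨hVi.mem a hv.1, by rw [← map_pow, hv.2, map_one]⟩) with h | h
    · exfalso
      obtain ⟨v, hv⟩ := exists_prime_orderOf_dvd_card' r hrV
      have hmem : (v : G) ∈ W :=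
        ⟨v.2, by exact_mod_cast congrArg Subtype.val (hv ▸ pow_orderOf_eq_one v)⟩
      rw [h, Subgroup.mem_bot, OneMemClass.coe_eq_one] at hmem
      rw [hmem, orderOf_one] at hv
      exact hr.one_lt.ne hv
    · exact fun v hv => (h.ge hv).2
  -- the quotient
  set q := QuotientGroup.mk' V with hq
  have hlt : Nat.card (G ⧸ V) < n := by
    subst hn
    have h1 := Subgroup.card_eq_card_quotient_mul_card_subgroup V
    have h2 : 1 < Nat.card V := lt_of_le_of_ne Nat.card_pos fun h => hV1 (Subgroup.card_eq_one.1 h.symm)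
    have h3 : 0 < Nat.card (G ⧸ V) := Nat.card_pos
    nlinarith
  haveI hN' : Group.IsNilpotent (N.map q) := by
    refine IH _ hlt (G ⧸ V) rfl (hG.coprime_dvd_left (Subgroup.card_quotient_dvd_card V))
      (Group.isSolvable_of_surjective (f := q) (QuotientGroup.mk'_surjective V))
      (quotAct φ V hVi) (fun a => (E a).map q) ?_ (N.map q)
      (hNn.map q (QuotientGroup.mk'_surjective V)) ?_ ((fun J => J.map q) '' spec) ?_ ?_
    · refine ⟨fun a ha => ?_, fun a ha g hg x hx => ?_, fun a ha => ?_⟩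
      · rintro _ ⟨x, hx, rfl⟩
        show quotAct φ V hVi a (x : G ⧸ V) = (x : G ⧸ V)
        rw [quotAct_mk, show φ a x = x from hE.le a ha hx]
      · obtain ⟨x, hx, rfl⟩ := hx
        obtain ⟨g, rfl⟩ := QuotientGroup.mk'_surjective V g
        have hgV : g⁻¹ * φ a g ∈ V :=
          QuotientGroup.eq.1 (show ((g : G) : G ⧸ V) = ((φ a g : G) : G ⧸ V) from hg.symm)
        obtain ⟨m, hm, hfix⟩ := exists_fixed_coset hexp hG a hVi hgV
        refine ⟨g * m * x * (g * m)⁻¹, hE.norm a ha _ hfix x hx, ?_⟩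
        have : q (g * m) = q g := by
          rw [map_mul, show q m = 1 from (QuotientGroup.eq_one_iff m).2 hm, mul_one]
        rw [map_mul, map_mul, map_inv, this]
      · rw [← map_lcs, hE.lcs a ha, Subgroup.map_bot]
    · refine inv_of_mem fun a x hx => ?_
      obtain ⟨x, hx, rfl⟩ := hx
      exact ⟨φ a x, hNi.mem a hx, rfl⟩
    · rw [hgen, sSup_eq_iSup, sSup_eq_iSup, iSup_image]
      simp only [Subgroup.map_iSup]
    · rintro _ ⟨J, hJ, rfl⟩
      obtain ⟨R, hR, hRE⟩ := hspec J hJ
      exact ⟨R, hR, fun a ha ha1 => Subgroup.map_mono (hRE a ha ha1)⟩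
  -- the action of `N` on `V`
  let ρ : N →* MulAut V := MulAut.conjNormal.comp N.subtype
  have hs := q.subgroupMap_surjective N
  have hker : (q.subgroupMap N).ker ≤ ρ.rangeRestrict.ker := by
    intro x hx
    have hxV : (x : G) ∈ V := (QuotientGroup.eq_one_iff (x : G)).1
      (congrArg Subtype.val (MonoidHom.mem_ker.1 hx))
    refine MonoidHom.mem_ker.2 (Subtype.ext (MulEquiv.ext fun v => Subtype.ext ?_))
    show (x : G) * v * (x : G)⁻¹ = v
    rw [(hVc _ hxV _ v.2).eq, mul_inv_cancel_right]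
  haveI : Group.IsNilpotent ρ.range := by
    let g := (q.subgroupMap N).liftOfSurjective hs ⟨ρ.rangeRestrict, hker⟩
    refine Group.nilpotent_of_surjective g fun y => ?_
    obtain ⟨x, rfl⟩ := ρ.rangeRestrict_surjective y
    exact ⟨q.subgroupMap N x, MonoidHom.liftOfRightInverse_comp_apply _ _ _ _ _⟩
  -- each piece acts as an `r`-group
  have hrelem : ∀ J ∈ spec, ∀ x ∈ J, ∀ hxN : x ∈ N, ∃ e, (ρ ⟨x, hxN⟩) ^ r ^ e = 1 := by
    intro J hJ x hx hxN
    obtain ⟨R, hR, hRE⟩ := hspec J hJ
    refine ⟨(orderOf x).factorization r, ?_⟩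
    set y := x ^ r ^ (orderOf x).factorization r with hy
    have hyo : (orderOf y).Coprime r := by
      rw [hy, orderOf_pow_of_dvd (pow_ne_zero _ hr.ne_zero) (Nat.ordProj_dvd _ _)]
      exact (Nat.coprime_ordCompl hr (orderOf_pos x).ne').symm
    have hVle : V ≤ Subgroup.centralizer {y} := by
      refine le_of_elts hexp hG hVi R hR fun a ha ha1 v hv => ?_
      have hyE : y ∈ E a := pow_mem (hRE a ha ha1 hx) _
      set w := ⁅y, v⁆ with hw
      have hwV : w ∈ V := by
        rw [hw, commutatorElement_def]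
        exact mul_mem (hVn.conj_mem v hv.1 y) (inv_mem hv.1)
      have hwE : w ∈ E a := by
        rw [hw, commutatorElement_def, mul_assoc, mul_assoc]
        exact mul_mem hyE (by simpa [mul_assoc] using hE.norm a ha1 v hv.2 _ (inv_mem hyE))
      have hnil : Group.IsNilpotent (E a) :=
        (Subgroup.isNilpotent_iff_lowerCentralSeries _).2 ⟨c, hE.lcs a ha1⟩
      have hwr : w ^ r = 1 := hVr w hwV
      have hc : Commute y w := congrArg Subtype.val
        (Cfsg.Agent.Transfer.nilpotent_commute_of_coprime hnil (x := ⟨y, hyE⟩) (y := ⟨w, hwE⟩)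
          (by
            rw [Subgroup.orderOf_mk, Subgroup.orderOf_mk]
            exact hyo.coprime_dvd_right (orderOf_dvd_of_pow_eq_one hwr))).eq
      have hpow : ∀ m : ℕ, y ^ m * v * (y ^ m)⁻¹ = w ^ m * v := by
        intro m
        induction m with
        | zero => simp
        | succ m ih =>
          calc y ^ (m + 1) * v * (y ^ (m + 1))⁻¹ = y * (y ^ m * v * (y ^ m)⁻¹) * y⁻¹ := by
                rw [pow_succ', mul_inv_rev]; simp only [mul_assoc]
            _ = y * w ^ m * v * y⁻¹ := by rw [ih]; simp only [mul_assoc]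
            _ = w ^ m * (y * v * y⁻¹) := by rw [(hc.pow_right m).eq]; simp only [mul_assoc]
            _ = w ^ m * (w * v) := by rw [hw, commutatorElement_def, inv_mul_cancel_right]
            _ = w ^ (m + 1) * v := by rw [pow_succ, mul_assoc]
      have hwo : w ^ orderOf y = 1 := by
        have h1 := hpow (orderOf y)
        rw [pow_orderOf_eq_one, inv_one, one_mul, mul_one] at h1
        exact (mul_eq_right.1 h1.symm)
      have hw1 : w = 1 := by
        have h1 : orderOf w ∣ Nat.gcd (orderOf y) r :=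
          Nat.dvd_gcd (orderOf_dvd_of_pow_eq_one hwo) (orderOf_dvd_of_pow_eq_one hwr)
        rw [Nat.Coprime.gcd_eq_one hyo, Nat.dvd_one, orderOf_eq_one_iff] at h1
        exact h1
      refine Subgroup.mem_centralizer_iff.2 fun z hz => ?_
      rw [Set.mem_singleton_iff.1 hz]
      exact commutatorElement_eq_one_iff_mul_comm.1 (hw ▸ hw1)
    rw [← map_pow]
    refine MulEquiv.ext fun v => Subtype.ext ?_
    show y * (v : G) * y⁻¹ = v
    rw [Subgroup.mem_centralizer_iff.1 (hVle v.2) y rfl, mul_inv_cancel_right]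
  have hPG : IsPGroup r ρ.range := by
    obtain ⟨P⟩ : Nonempty (Sylow r ρ.range) := inferInstance
    haveI : (P : Subgroup ρ.range).Normal := inferInstance
    haveI : Subsingleton (Sylow r ρ.range) := Sylow.unique_of_normal P inferInstance |>.instSubsingleton
    have htop : ((P : Subgroup ρ.range).comap ρ.rangeRestrict).map N.subtype = N := by
      refine le_antisymm (Subgroup.map_subtype_le _) ?_
      conv_lhs => rw [hgen]
      refine sSup_le fun J hJ x hx => ?_
      have hxN : x ∈ N := hgen.ge (le_sSup hJ hx)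
      refine ⟨⟨x, hxN⟩, ?_, rfl⟩
      obtain ⟨e, he⟩ := hrelem J hJ x hx hxN
      obtain ⟨i, -, hi⟩ := (Nat.dvd_prime_pow hr).1 (orderOf_dvd_of_pow_eq_one
        (show (ρ.rangeRestrict ⟨x, hxN⟩) ^ r ^ e = 1 from Subtype.ext he))
      obtain ⟨Q, hQ⟩ := (IsPGroup.of_card (n := i)
        (show Nat.card (Subgroup.zpowers (ρ.rangeRestrict ⟨x, hxN⟩)) = r ^ i by
          rw [Nat.card_zpowers, hi])).exists_le_sylow
      rw [Subsingleton.elim Q P] at hQ
      exact hQ (Subgroup.mem_zpowers _)
    refine (P.isPGroup'.to_le ?_ : IsPGroup r (⊤ : Subgroup ρ.range)).of_equiv Subgroup.topEquiv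
    rintro y -
    obtain ⟨x, rfl⟩ := ρ.rangeRestrict_surjective y
    obtain ⟨x', hx', hxx⟩ := htop.ge x.2
    rwa [← Subtype.ext (a1 := x') (a2 := x) hxx]
  -- a fixed point, so `V` is central in `N`
  have hcent : V ≤ Subgroup.centralizer (N : Set G) := by
    letI : MulAction ρ.range V :=
      { smul := fun f v => (f : MulAut V) v
        one_smul := fun _ => rfl
        mul_smul := fun _ _ _ => rfl }
    obtain ⟨b, hb, hb1⟩ := hPG.exists_fixed_point_of_prime_dvd_card_of_fixed_point V hrV
      (a := 1) (fun f => map_one (f : MulAut V))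
    rcases hmin' (V ⊓ Subgroup.centralizer (N : Set G)) inf_le_left inferInstance
      (hVi.inf (inv_of_mem fun a x hx => Subgroup.mem_centralizer_iff.2 fun y hy => by
        obtain ⟨y', hy', rfl⟩ := (Subgroup.eq_of_le_of_card_ge (hNi a)
          (by rw [Subgroup.card_map_of_injective (φ a).injective])).ge hy
        show φ a y' * φ a x = φ a x * φ a y'
        rw [← map_mul, ← map_mul, Subgroup.mem_centralizer_iff.1 hx y' hy'])) with h | h
    · exfalso
      have hbm : (b : G) ∈ V ⊓ Subgroup.centralizer (N : Set G) := by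
        refine ⟨b.2, Subgroup.mem_centralizer_iff.2 fun y hy => ?_⟩
        have h1 := congrArg Subtype.val (hb ⟨ρ ⟨y, hy⟩, ⟨⟨y, hy⟩, rfl⟩⟩)
        exact mul_inv_eq_iff_eq_mul.1 h1
      rw [h, Subgroup.mem_bot, OneMemClass.coe_eq_one] at hbm
      exact hb1 hbm.symm
    · exact h ▸ inf_le_right
  refine Subgroup.isNilpotent_of_ker_le_center (q.subgroupMap N) (fun x hx => ?_)
  have hxV : (x : G) ∈ V := (QuotientGroup.eq_one_iff (x : G)).1
    (congrArg Subtype.val (MonoidHom.mem_ker.1 hx))
  exact Subgroup.mem_center_iff.2 fun y =>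
    Subtype.ext (Subgroup.mem_centralizer_iff.1 (hcent hxV) y y.2)

end Cfsg.Agent.KS24
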