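import Cfsg.Agent.KS24.Lie
import Cfsg.Agent.KS24.Nil
import Cfsg.Agent.FG72.Alperin.LieBound

/-!
The class bound for a nilpotent group covered by pieces of fixed-point subgroups, through the
associated Lie ring.
-/

set_option autoImplicit false

namespace Cfsg.Agent.KS24

open FG72.Assoc FG72.LieGrad FG72.Cyclo
open scoped commutatorElement

variable {A N : Type*} [CommGroup A] [Group N]

/-- A family of invariant pieces generating the group, closed under the basic commutator step. -/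
structure Cover (φ : A →* MulAut N) (p : ℕ) (E : A → Subgroup N) (spec : Set (Subgroup N)) : Prop where
  inv : ∀ J ∈ spec, Inv φ J
  rank : ∀ J ∈ spec, ∃ R : Subgroup A, p ^ 2 ≤ Nat.card R ∧ ∀ a ∈ R, a ≠ 1 → J ≤ E a
  closed : ∀ J ∈ spec, ∀ J' ∈ spec, ∀ B : Subgroup A, B.index ≤ p →
    ∃ J'' ∈ spec, ⁅J, J'⁆ ⊓ CB φ B ≤ J''

/-- The elements of a piece of the lower central series with class in `M`. -/
noncomputable def iSub (w : ℕ) (M : AddSubgroup (LieRingOf N)) : Subgroup N where
  carrier := {g | g ∈ gam N w ∧ ι w g ∈ M}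
  one_mem' := ⟨one_mem _, by rw [ι_one]; exact zero_mem _⟩
  mul_mem' := fun ha hb => ⟨mul_mem ha.1 hb.1, by rw [ι_mul ha.1 hb.1]; exact add_mem ha.2 hb.2⟩
  inv_mem' := fun ha => ⟨inv_mem ha.1, by rw [ι_inv ha.1]; exact neg_mem ha.2⟩

theorem mem_iSub {w : ℕ} {M : AddSubgroup (LieRingOf N)} {g : N} :
    g ∈ iSub w M ↔ g ∈ gam N w ∧ ι w g ∈ M := Iff.rfl

/-- The derived series of a subring. -/
noncomputable def der (M : AddSubgroup (LieRingOf N)) : ℕ → AddSubgroup (LieRingOf N)
  | 0 => M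
  | j + 1 => AddSubgroup.closure {z | ∃ x ∈ der M j, ∃ y ∈ der M j, br N x y = z}

theorem br_mem_der {M : AddSubgroup (LieRingOf N)} {j : ℕ} {x y : LieRingOf N} (hx : x ∈ der M j)
    (hy : y ∈ der M j) : br N x y ∈ der M (j + 1) :=
  AddSubgroup.subset_closure ⟨x, hx, y, hy, rfl⟩

theorem der_succ_le {M : AddSubgroup (LieRingOf N)}
    (hM : ∀ x ∈ M, ∀ y ∈ M, br N x y ∈ M) : ∀ j, der M (j + 1) ≤ der M j := by
  intro j
  induction j with
  | zero => exact (AddSubgroup.closure_le _).2 (by rintro _ ⟨x, hx, y, hy, rfl⟩; exact hM x hx y hy)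
  | succ j ih =>
    refine (AddSubgroup.closure_le _).2 ?_
    rintro _ ⟨x, hx, y, hy, rfl⟩
    exact br_mem_der (ih hx) (ih hy)

variable (φ : A →* MulAut N)

/-- The induced map on the Lie ring. -/
noncomputable abbrev lm (a : A) : LieRingOf N →+ LieRingOf N := lmap (φ a).toMonoidHom

/-- Invariance of an additive subgroup of the Lie ring. -/
def InvL (M : AddSubgroup (LieRingOf N)) : Prop := ∀ a, ∀ x ∈ M, lm φ a x ∈ M

/-- The fixed elements of the Lie ring. -/
noncomputable def FixL (a : A) : AddSubgroup (LieRingOf N) :=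
  (lm φ a - AddMonoidHom.id (LieRingOf N)).ker

/-- The atoms. -/
def At (spec : Set (Subgroup N)) : Set (LieRingOf N) :=
  {x | ∃ J ∈ spec, ∃ w g, g ∈ gam N w ∧ g ∈ J ∧ ι w g = x}

/-- The elements inside the centralisers attached to `R`. -/
def UR (E : A → Subgroup N) (R : Subgroup A) : Set (LieRingOf N) :=
  {x | ∃ w g, g ∈ gam N w ∧ (∀ a ∈ R, a ≠ 1 → g ∈ E a) ∧ ι w g = x}

variable {φ}

theorem mem_FixL {a : A} {x : LieRingOf N} : x ∈ FixL φ a ↔ lm φ a x = x := by
  simp [FixL, sub_eq_zero]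

theorem lm_ι (a : A) {w : ℕ} {g : N} (hg : g ∈ gam N w) : lm φ a (ι w g) = ι w (φ a g) :=
  lmap_ι _ hg

theorem lm_comm (a b : A) (x : LieRingOf N) : lm φ a (lm φ b x) = lm φ b (lm φ a x) := by
  induction x using gr_induction with
  | h0 => simp
  | hadd x y hx hy => simp [hx, hy]
  | hι w g hg =>
    rw [lm_ι b hg, lm_ι a (show φ b g ∈ gam N w from map_mem_gam (φ b).toMonoidHom hg), lm_ι a hg,
      lm_ι b (show φ a g ∈ gam N w from map_mem_gam (φ a).toMonoidHom hg)]
    rw [← MulAut.mul_apply, ← MulAut.mul_apply, ← map_mul, ← map_mul, mul_comm]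

theorem invL_fix (a : A) : InvL φ (FixL φ a) := fun b x hx => by
  rw [mem_FixL] at hx ⊢
  rw [lm_comm, hx]

theorem invL_der {M : AddSubgroup (LieRingOf N)} (hM : InvL φ M) : ∀ j, InvL φ (der M j) := by
  intro j
  induction j with
  | zero => exact hM
  | succ j ih =>
    intro a x hx
    refine (AddSubgroup.closure_le ((der M (j + 1)).comap (lm φ a))).2 ?_ hx
    rintro _ ⟨u, hu, v, hv, rfl⟩
    show lm φ a (br N u v) ∈ der M (j + 1)
    rw [show lm φ a (br N u v) = br N (lm φ a u) (lm φ a v) from lmap_br _ u v]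
    exact br_mem_der (ih a u hu) (ih a v hv)

theorem fix_br (a : A) : ∀ x ∈ FixL φ a, ∀ y ∈ FixL φ a, br N x y ∈ FixL φ a := fun x hx y hy => by
  rw [mem_FixL] at hx hy ⊢
  rw [show lm φ a (br N x y) = br N (lm φ a x) (lm φ a y) from lmap_br _ x y, hx, hy]

theorem inv_gam (w : ℕ) : Inv φ (gam N w) := inv_of_mem fun a _ hg => map_mem_gam (φ a).toMonoidHom hg

theorem inv_iSub {M : AddSubgroup (LieRingOf N)} (hM : InvL φ M) (w : ℕ) : Inv φ (iSub w M) :=
  inv_of_mem fun a g hg => ⟨map_mem_gam (φ a).toMonoidHom hg.1, lm_ι (φ := φ) a hg.1 ▸ hM a _ hg.2⟩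

theorem ker_mono_nat {L : Type*} [AddCommGroup L] {B : L →+ L →+ L} {T : Set L} :
    ∀ {r r' : ℕ}, r ≤ r' → Ker B T r ≤ Ker B T r' := by
  have h1 : ∀ r, Ker B T r ≤ Ker B T (r + 1) := by
    intro r
    induction r with
    | zero => exact bot_le
    | succ r ih => exact fun x hx => mem_ker_succ.2 fun t ht => ih (mem_ker_succ.1 hx t ht)
  intro r r' h
  exact monotone_nat_of_le_succ h1 h

section Transfer

variable {L : Type*} [AddCommGroup L] {p : ℕ} [hp : Fact p.Prime] {B : L →+ L →+ L} {A : L →+ L}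

theorem ext_zero_acts (n : ℕ) (hn : Ker B {x | A x = x} n = ⊤) :
    Ker (extBr B (p := p)) (eig A (0 : ZMod p) : Set (Ext L p)) n = ⊤ := by
  have key : ∀ r, ∀ g : ZMod p → L, (∀ i, g i ∈ Ker B {x | A x = x} r) →
      (g : Ext L p) ∈ Ker (extBr B (p := p)) (eig A (0 : ZMod p) : Set (Ext L p)) r := by
    intro r
    induction r with
    | zero =>
      intro g hg
      have : g = 0 := funext fun i => hg i
      rw [this]
      exact zero_mem _
    | succ r ih =>
      intro g hg
      refine mem_ker_succ.2 ?_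
      rintro _ ⟨f, hf, rfl⟩
      obtain ⟨c₀, hc₀⟩ := mem_consts.mp
        (show ((pw A - shift 0 : (ZMod p → L) →+ (ZMod p → L))) f ∈ consts L p from hf)
      simp only [AddMonoidHom.sub_apply, Pi.sub_apply, pw_apply, shift_apply, sub_zero] at hc₀
      have hff : (f : Ext L p) = ((fun i => f i - f 0 : ZMod p → L) : Ext L p) :=
        QuotientAddGroup.eq_iff_sub_mem.mpr (mem_consts.mpr ⟨f 0, fun i => by simp⟩)
      show extBr B (f : Ext L p) (g : Ext L p) ∈ _
      rw [hff, extBr_mk]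
      refine ih _ fun i => ?_
      rw [conv_apply]
      refine sum_mem fun b _ => mem_ker_succ.1 (hg (i - b)) _ ?_
      show A (f b - f 0) = f b - f 0
      rw [map_sub, sub_eq_sub_iff_sub_eq_sub, hc₀, hc₀]
  refine top_le_iff.1 fun x _ => ?_
  induction x using QuotientAddGroup.induction_on with
  | H g => exact key n g fun i => by rw [hn]; trivial

/-- An automorphism of order `p` whose fixed points act nilpotently forces solvability. -/
theorem lie_solvable (hB : IsLie B) (hA : ∀ x y, A (B x y) = B (A x) (A y))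
    (hper : ∀ x, A^[p] x = x) (htor : ∀ x : L, p • x = 0 → x = 0) (n : ℕ)
    (hn : Ker B {x | A x = x} n = ⊤) : FG72.Alperin.dBr B (fK n (p - 1)) = ⊥ := by
  haveI : NeZero p := ⟨hp.out.ne_zero⟩
  set D : ZMod p → AddSubgroup (Ext L p) := fun k => eig A k with hD
  have hmul : IsMul (extBr B (p := p)) D := fun i j x y hx hy =>
    FG72.Alperin.eig_mul_mem hA hx hy
  have key : ∀ (m : ℕ), ∀ x ∈ FG72.Alperin.dBr B m, p ^ 2 ^ m • del L p x ∈
      AddSubgroup.closure (⋃ k, (DS (extBr B) D m k : Set (Ext L p))) := by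
    intro m
    induction m with
    | zero =>
      intro x _
      rw [pow_zero, pow_one]
      exact nsmul_mem_closure_eig hper (Pi.single (0 : ZMod p) x)
    | succ m ih =>
      intro x hx
      refine (AddSubgroup.closure_le ((AddSubgroup.closure _).comap
        ((nsmulAddMonoidHom (p ^ 2 ^ (m + 1))).comp (del L p)))).mpr ?_ hx
      rintro _ ⟨u, hu, v, hv, rfl⟩
      show p ^ 2 ^ (m + 1) • del L p (B u v) ∈ AddSubgroup.closure _
      have h2 : p ^ 2 ^ (m + 1) • del L p (B u v) =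
          extBr B (p ^ 2 ^ m • del L p u) (p ^ 2 ^ m • del L p v) := by
        rw [map_nsmul (extBr B), map_nsmul _ (p ^ 2 ^ m), ← extBr_del,
          show ∀ (c : ℕ) (u' v' : Ext L p), (c • extBr B u') v' = c • extBr B u' v' from
            fun _ _ _ => rfl, smul_smul, ← pow_add, pow_succ, mul_two]
      rw [h2]
      refine closure_bracket_mem ?_ (ih u hu) (ih v hv)
      intro a ha b hb
      obtain ⟨i, hi⟩ := Set.mem_iUnion.mp ha
      obtain ⟨j, hj⟩ := Set.mem_iUnion.mp hb
      exact AddSubgroup.subset_closure (Set.mem_iUnion.mpr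
        ⟨i + j, AddSubgroup.subset_closure ⟨i, j, a, b, hi, hj, rfl, rfl⟩⟩)
  refine le_bot_iff.1 fun x hx => ?_
  have hbot : p ^ 2 ^ fK n (p - 1) • del L p x ∈ (⊥ : AddSubgroup (Ext L p)) := by
    refine (AddSubgroup.closure_le _).mpr (Set.iUnion_subset fun k y hy => ?_) (key _ x hx)
    rw [ds_eq_bot (extBr_isLie _ hB) hmul (ext_zero_acts n hn) k] at hy
    exact hy
  rw [AddSubgroup.mem_bot, ← map_nsmul] at hbot
  have h0 := del_injective hp.out.two_le (hbot.trans (map_zero _).symm)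
  have hall : ∀ (m : ℕ) (y : L), p ^ m • y = 0 → y = 0 := by
    intro m
    induction m with
    | zero => intro y hy; simpa using hy
    | succ m ihm =>
      intro y hy
      refine ihm y (htor _ ?_)
      rw [← mul_smul, ← pow_succ', hy]
  exact AddSubgroup.mem_bot.2 (hall _ x h0)

end Transfer

section Main

variable [Finite A] [Finite N] {p : ℕ} [hp : Fact p.Prime]
  {E : A → Subgroup N} {spec : Set (Subgroup N)} {c : ℕ}

omit [Finite A] in
theorem mem_of_nsmul (hN : (Nat.card N).Coprime p) {M : AddSubgroup (LieRingOf N)}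
    {x : LieRingOf N} (h : p • x ∈ M) : x ∈ M := by
  have hbez := Nat.gcd_eq_gcd_ab (Nat.card N) p
  rw [hN.gcd_eq_one, Nat.cast_one] at hbez
  have hx : x = (Nat.gcdB (Nat.card N) p) • (p • x) := by
    conv_lhs => rw [← one_zsmul x, hbez, add_zsmul, mul_comm (Nat.card N : ℤ), mul_zsmul,
      natCast_zsmul, FG72.Assoc.card_nsmul_eq_zero, zsmul_zero, zero_add, mul_comm (p : ℤ), mul_zsmul,
      natCast_zsmul]
  rw [hx]
  exact zsmul_mem h _

/-- The set of a subgroup `R` acts nilpotently. -/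
theorem ker_UR (hexp : ∀ a : A, a ^ p = 1) (hN : (Nat.card N).Coprime p) (hE : Sys φ c E)
    {R : Subgroup A} (hR : p ^ 2 ≤ Nat.card R) : Ker (br N) (UR E R) (c + 1) = ⊤ := by
  suffices h : ∀ w, gam N w ≤ iSub w (Ker (br N) (UR E R) (c + 1)) from top_le_iff.1 fun x _ => by
    induction x using gr_induction with
    | h0 => exact zero_mem _
    | hadd x y hx hy => exact add_mem (hx trivial) (hy trivial)
    | hι w g hg => exact (h w hg).2
  intro w
  refine le_of_elts hexp hN (inv_gam (φ := φ) w) R hR fun a ha ha1 g hg => ⟨hg.1, ?_⟩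
  have hdown : ∀ r j, c ≤ j + r → ∀ v h, h ∈ gam N v → h ∈ (E a).lowerCentralSeries j →
      ι v h ∈ Ker (br N) (UR E R) r := by
    intro r
    induction r with
    | zero =>
      intro j hj v h _ hh
      have h1 := Subgroup.lowerCentralSeries_antitone (E a) (show c ≤ j by omega) hh
      rw [hE.lcs a ha1, Subgroup.mem_bot] at h1
      rw [h1, ι_one]
      exact zero_mem _
    | succ r ih =>
      intro j hj v h hv hh
      refine mem_ker_succ.2 ?_
      rintro _ ⟨u, e, hu, he, rfl⟩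
      rw [br_ι hu hv]
      refine ih (j + 1) (by omega) _ _ (comm_mem hu hv) ?_
      rw [← commutatorElement_inv]
      exact inv_mem (Subgroup.commutator_mem_commutator hh (he a ha ha1))
  refine mem_ker_succ.2 ?_
  rintro _ ⟨u, e, hu, he, rfl⟩
  rw [br_ι hu hg.1]
  refine hdown c 0 (by omega) _ _ (comm_mem hu hg.1) ?_
  show ⁅e, g⁆ ∈ E a
  rw [commutatorElement_def, mul_assoc, mul_assoc]
  exact mul_mem (he a ha ha1)
    (by simpa [mul_assoc] using hE.norm a ha1 g hg.2 _ (inv_mem (he a ha ha1)))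

/-- Brackets of atoms are sums of atoms. -/
theorem br_atoms (hexp : ∀ a : A, a ^ p = 1) (hN : (Nat.card N).Coprime p)
    (hC : Cover φ p E spec) {M M' : AddSubgroup (LieRingOf N)} (hM : InvL φ M)
    (hbr : ∀ x ∈ M, ∀ y ∈ M, br N x y ∈ M') {x y : LieRingOf N}
    (hx : x ∈ At spec ∩ M) (hy : y ∈ At spec ∩ M) :
    br N x y ∈ AddSubgroup.closure (At spec ∩ M') := by
  obtain ⟨⟨J, hJ, w, g, hgw, hgJ, rfl⟩, hxM⟩ := hx
  obtain ⟨⟨J', hJ', v, h, hhv, hhJ, rfl⟩, hyM⟩ := hy
  set X := J ⊓ iSub w M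
  set Y := J' ⊓ iSub v M
  have hXY : ⁅X, Y⁆ ≤ iSub (w + v + 1) M' :=
    Subgroup.commutator_le.2 fun a ha b hb => ⟨comm_mem ha.2.1 hb.2.1,
      br_ι ha.2.1 hb.2.1 ▸ hbr _ ha.2.2 _ hb.2.2⟩
  have hle : ⁅X, Y⁆ ≤ iSub (w + v + 1) (AddSubgroup.closure (At spec ∩ M')) := by
    refine le_of_hyper hexp hN (((hC.inv J hJ).inf (inv_iSub hM w)).bracket
      ((hC.inv J' hJ').inf (inv_iSub hM v))) ⊤ fun B _ hB z hz => ⟨(hXY hz.1).1, ?_⟩
    rw [Subgroup.relIndex_top_right] at hB
    obtain ⟨J'', hJ'', hle''⟩ := hC.closed J hJ J' hJ' B hB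
    exact AddSubgroup.subset_closure ⟨⟨J'', hJ'', _, z, (hXY hz.1).1,
      hle'' ⟨Subgroup.commutator_mono inf_le_left inf_le_left hz.1, hz.2⟩, rfl⟩, (hXY hz.1).2⟩
  rw [br_ι hgw hhv]
  exact (hle (Subgroup.commutator_mem_commutator ⟨hgJ, hgw, hxM⟩ ⟨hhJ, hhv, hyM⟩)).2

/-- The atoms span. -/
theorem closure_At (hexp : ∀ a : A, a ^ p = 1) (hN : (Nat.card N).Coprime p)
    (hC : Cover φ p E spec) (hgen : sSup spec = ⊤) : AddSubgroup.closure (At spec) = ⊤ := by
  have h : ∀ w, gam N w ≤ iSub w (AddSubgroup.closure (At spec)) := by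
    intro w
    induction w with
    | zero =>
      intro g _
      refine (show sSup spec ≤ iSub 0 (AddSubgroup.closure (At spec)) from sSup_le fun J hJ x hx =>
        ⟨Subgroup.mem_top x, AddSubgroup.subset_closure ⟨J, hJ, 0, x, Subgroup.mem_top x, hx, rfl⟩⟩) ?_
      rw [hgen]; trivial
    | succ w ih =>
      show ⁅gam N w, (⊤ : Subgroup N)⁆ ≤ _
      refine Subgroup.commutator_le.2 fun y hy x _ => ⟨Subgroup.commutator_mem_commutator hy
        (Subgroup.mem_top x), ?_⟩
      have hxy : ι (w + 1) ⁅y, x⁆ = -br N (ι 0 x) (ι w y) := by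
        rw [br_ι (Subgroup.mem_top x) hy, ← ι_inv (comm_mem (Subgroup.mem_top x) hy),
          commutatorElement_inv, Nat.zero_add]
      rw [hxy]
      refine neg_mem (closure_bracket_mem (S := At spec) (T := At spec) (fun a ha b hb => ?_) ?_ (ih hy).2)
      · exact AddSubgroup.closure_mono Set.inter_subset_left
          (br_atoms hexp hN hC (M := ⊤) (M' := ⊤) (fun _ _ _ => trivial)
            (fun _ _ _ _ => trivial) ⟨ha, trivial⟩ ⟨hb, trivial⟩)
      · refine (show sSup spec ≤ iSub 0 (AddSubgroup.closure (At spec)) from sSup_le fun J hJ z hz =>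
          ⟨Subgroup.mem_top z, AddSubgroup.subset_closure
            ⟨J, hJ, 0, z, Subgroup.mem_top z, hz, rfl⟩⟩) (hgen.ge (Subgroup.mem_top x)) |>.2
  refine top_le_iff.1 fun x _ => ?_
  induction x using gr_induction with
  | h0 => exact zero_mem _
  | hadd x y hx hy => exact add_mem (hx trivial) (hy trivial)
  | hι w g hg => exact (h w hg).2

omit [Finite A] [Finite N] in
theorem pow_act (hexp : ∀ a : A, a ^ p = 1) (a : A) (g : N) :
    (⇑(φ a).toMonoidHom)^[p] g = g := by
  have h : ∀ n : ℕ, (⇑(φ a).toMonoidHom)^[n] g = φ (a ^ n) g := by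
    intro n
    induction n with
    | zero => simp
    | succ n ih =>
      rw [Function.iterate_succ_apply', ih, pow_succ', map_mul]
      rfl
  rw [h, hexp, map_one]
  rfl

/-- The average over the cyclic group generated by `a`. -/
noncomputable def avg (φ : A →* MulAut N) (p : ℕ) (a : A) (x : LieRingOf N) : LieRingOf N :=
  ∑ i ∈ Finset.range p, (lm φ a)^[i] x

theorem avg_add (a : A) (x y : LieRingOf N) : avg φ p a (x + y) = avg φ p a x + avg φ p a y := by
  simp [avg, iterate_map_add, Finset.sum_add_distrib]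

omit [Finite A] in
theorem avg_fixed (hexp : ∀ a : A, a ^ p = 1) (a : A) (x : LieRingOf N) :
    avg φ p a x ∈ FixL φ a := by
  rw [mem_FixL, avg, map_sum]
  have hper : (lm φ a)^[p] x = x := lmap_iterate_eq_self _ (pow_act hexp a) x
  simp only [← Function.iterate_succ_apply']
  have h := Finset.sum_range_succ' (fun i => (lm φ a)^[i] x) p
  rw [Finset.sum_range_succ, hper] at h
  simpa using h.symm

omit [Finite A] in
theorem avg_eq {a : A} {x : LieRingOf N} (hx : x ∈ FixL φ a) : avg φ p a x = p • x := by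
  rw [avg, Finset.sum_congr rfl fun i _ => Function.iterate_fixed (mem_FixL.1 hx) i,
    Finset.sum_const, Finset.card_range]

omit [Finite A] in
theorem avg_ι (a : A) {w : ℕ} {g : N} {K : Subgroup N} (hK : Inv φ K) (hg : g ∈ K)
    (hgw : g ∈ gam N w) : ∃ h ∈ K, h ∈ gam N w ∧ avg φ p a (ι w g) = ι w h := by
  have h : ∀ n, ∃ h ∈ K, h ∈ gam N w ∧
      (∑ i ∈ Finset.range n, (lm φ a)^[i] (ι w g)) = ι w h := by
    intro n
    induction n with
    | zero => exact ⟨1, one_mem _, one_mem _, by simp [ι_one]⟩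
    | succ n ih =>
      obtain ⟨h, hhK, hhw, he⟩ := ih
      obtain ⟨e1, e2⟩ := lmap_iterate (φ a).toMonoidHom n hgw
      have hK' : ∀ m : ℕ, (⇑(φ a).toMonoidHom)^[m] g ∈ K := by
        intro m
        induction m with
        | zero => exact hg
        | succ m ihm => rw [Function.iterate_succ_apply']; exact hK.mem a ihm
      refine ⟨h * (⇑(φ a).toMonoidHom)^[n] g, mul_mem hhK (hK' n), mul_mem hhw e2, ?_⟩
      rw [Finset.sum_range_succ, he, ι_mul hhw e2]
      exact congrArg _ e1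
  exact h p

/-- The fixed elements are spanned by fixed atoms. -/
theorem fix_le_atoms (hexp : ∀ a : A, a ^ p = 1) (hN : (Nat.card N).Coprime p)
    (hC : Cover φ p E spec) (hgen : sSup spec = ⊤) (a : A) :
    FixL φ a ≤ AddSubgroup.closure (At spec ∩ FixL φ a) := by
  have h : ∀ x ∈ AddSubgroup.closure (At spec),
      avg φ p a x ∈ AddSubgroup.closure (At spec ∩ FixL φ a) := by
    intro x hx
    refine (AddSubgroup.closure_le ((AddSubgroup.closure (At spec ∩ FixL φ a)).comap
      (AddMonoidHom.mk' (avg φ p a) (avg_add a)))).2 ?_ hx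
    rintro _ ⟨J, hJ, w, g, hgw, hgJ, rfl⟩
    obtain ⟨h, hhJ, hhw, he⟩ := avg_ι (p := p) a (hC.inv J hJ) hgJ hgw
    refine AddSubgroup.subset_closure ⟨⟨J, hJ, w, h, hhw, hhJ, he.symm⟩, ?_⟩
    exact avg_fixed hexp a _
  intro x hx
  refine mem_of_nsmul hN ?_
  rw [← avg_eq (p := p) hx]
  exact h x (by rw [closure_At hexp hN hC hgen]; trivial)

/-- The fixed elements come from fixed points. -/
theorem fix_le_points (hexp : ∀ a : A, a ^ p = 1) (hN : (Nat.card N).Coprime p) (a : A) :
    FixL φ a ≤ AddSubgroup.closure {x | ∃ w g, g ∈ gam N w ∧ g ∈ Cel φ a ∧ ι w g = x} := by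
  set F : Set (LieRingOf N) := {x | ∃ w g, g ∈ gam N w ∧ g ∈ Cel φ a ∧ ι w g = x}
  intro x hx
  refine mem_of_nsmul hN ?_
  rw [← avg_eq (p := p) hx]
  clear hx
  induction x using gr_induction with
  | h0 =>
    rw [avg, Finset.sum_eq_zero fun i _ => iterate_map_zero _ i]
    exact zero_mem _
  | hadd x y hx hy => rw [avg_add]; exact add_mem hx hy
  | hι w g hg =>
    obtain ⟨h, -, hhw, he⟩ := avg_ι (p := p) a (inv_top (φ := φ)) (Subgroup.mem_top g) hg
    have hfix := mem_FixL.1 (avg_fixed (φ := φ) hexp a (ι w g))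
    rw [he, lm_ι a hhw] at hfix
    have h1 : h⁻¹ * φ a h ∈ gam N (w + 1) := by
      refine mem_of_ι_eq_zero (mul_mem (inv_mem hhw) (map_mem_gam (φ a).toMonoidHom hhw)) ?_
      rw [ι_mul (inv_mem hhw) (show φ a h ∈ gam N w from map_mem_gam (φ a).toMonoidHom hhw),
        ι_inv hhw, hfix, neg_add_cancel]
    obtain ⟨n, hn, hfix'⟩ := exists_fixed_coset hexp hN a (inv_gam (φ := φ) (w + 1)) h1
    have hnw : n ∈ gam N w := gam_le w.le_succ hn
    refine AddSubgroup.subset_closure ⟨w, h * n, mul_mem hhw hnw, hfix', ?_⟩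
    rw [he, ι_mul hhw hnw, ι_eq_zero hn, add_zero]

/-- The bound. -/
def bnd (p q c s : ℕ) : ℕ :=
  (2 ^ q * c + 1) ^ fK ((2 ^ q * c + 1) ^ s) (p - 1)

set_option maxHeartbeats 800000 in
theorem class_bound [Group.IsNilpotent N] (hexp : ∀ a : A, a ^ p = 1)
    (hN : (Nat.card N).Coprime p) (hE : Sys φ c E) (hC : Cover φ p E spec) (hgen : sSup spec = ⊤)
    {a : A} {s : ℕ} (hs : dser (Cel φ a) s = ⊥) :
    gam N (bnd p (Nat.card A) c s) = ⊥ := by
  classical
  haveI : NeZero p := ⟨hp.out.ne_zero⟩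
  cases nonempty_fintype A
  let I := {R : Subgroup A // p ^ 2 ≤ Nat.card R}
  haveI : Fintype I := Fintype.ofFinite I
  have hI : Fintype.card I ≤ 2 ^ Nat.card A := by
    rw [Nat.card_eq_fintype_card, ← Fintype.card_set]
    exact Fintype.card_le_of_injective (fun R : I => ((R : Subgroup A) : Set A))
      fun R S h => Subtype.ext (SetLike.coe_injective h)
  set q := Fintype.card I * c + 1
  have hq : q ≤ 2 ^ Nat.card A * c + 1 := Nat.succ_le_succ (Nat.mul_le_mul_right c hI)
  set n₀ := (2 ^ Nat.card A * c + 1) ^ s with hn₀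
  have hcov : ∀ t ∈ At spec, ∃ R : I, t ∈ UR E (R : Subgroup A) := by
    rintro _ ⟨J, hJ, w, g, hgw, hgJ, rfl⟩
    obtain ⟨R, hR, hRE⟩ := hC.rank J hJ
    exact ⟨⟨R, hR⟩, w, g, hgw, fun b hb hb1 => hRE b hb hb1 hgJ, rfl⟩
  have chain : ∀ (M : AddSubgroup (LieRingOf N)), InvL φ M → (∀ x ∈ M, ∀ y ∈ M, br N x y ∈ M) →
      ∀ t, der M t = ⊥ → Ker (br N) (At spec ∩ M) (q ^ t) = ⊤ := by
    intro M hM hbr t ht
    exact ker_chain br_isLie (fun R : I => UR E (R : Subgroup A)) c
      (fun R => ker_UR hexp hN hE R.2) t (fun j => At spec ∩ der M j)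
      (fun j x hx => hcov x hx.1) (fun j x hx => ⟨hx.1, der_succ_le hbr j hx.2⟩)
      (fun j x hx y hy => br_atoms hexp hN hC (invL_der hM j) (fun u hu v hv => br_mem_der hu hv) hx hy)
      (fun x hx => by simpa [ht] using hx.2)
  -- the fixed points of `a`
  have hfix : Ker (br N) (FixL φ a : Set (LieRingOf N)) n₀ = ⊤ := by
    have hd : ∀ j, der (FixL φ a) j ≤ AddSubgroup.closure
        {x | ∃ w g, g ∈ gam N w ∧ g ∈ dser (Cel φ a) j ∧ ι w g = x} := by
      intro j
      induction j with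
      | zero => exact fix_le_points hexp hN a
      | succ j ih =>
        refine (AddSubgroup.closure_le _).2 ?_
        rintro _ ⟨u, hu, v, hv, rfl⟩
        refine closure_bracket_mem ?_ (ih hu) (ih hv)
        rintro _ ⟨w, g, hgw, hg, rfl⟩ _ ⟨w', g', hgw', hg', rfl⟩
        rw [br_ι hgw hgw']
        exact AddSubgroup.subset_closure
          ⟨_, _, comm_mem hgw hgw', Subgroup.commutator_mem_commutator hg hg', rfl⟩
    have hzero : der (FixL φ a) s = ⊥ := by
      refine le_bot_iff.1 ((hd s).trans ((AddSubgroup.closure_le _).2 ?_))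
      rintro _ ⟨w, g, -, hg, rfl⟩
      rw [hs, Subgroup.mem_bot] at hg
      rw [hg, ι_one]
      exact zero_mem _
    refine ker_eq_top_of_subset_closure (top_le_iff.1 ((chain _ (invL_fix a) (fix_br a) s hzero).ge.trans
      (ker_mono_nat (Nat.pow_le_pow_left hq s)))) (fix_le_atoms hexp hN hC hgen a)
  -- the Kreknin step
  have hsolv : der (⊤ : AddSubgroup (LieRingOf N)) (fK n₀ (p - 1)) = ⊥ := by
    have hle : ∀ m, der (⊤ : AddSubgroup (LieRingOf N)) m ≤ FG72.Alperin.dBr (br N) m := by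
      intro m
      induction m with
      | zero => exact le_top
      | succ m ih =>
        refine (AddSubgroup.closure_le _).2 ?_
        rintro _ ⟨u, hu, v, hv, rfl⟩
        exact AddSubgroup.subset_closure ⟨u, ih hu, v, ih hv, rfl⟩
    refine le_bot_iff.1 ((hle _).trans (le_of_eq ?_))
    refine lie_solvable br_isLie (A := lm φ a) (fun u v => lmap_br (φ a).toMonoidHom u v)
      (lmap_iterate_eq_self _ (pow_act hexp a)) (fun y hy => ?_) n₀ ?_
    · exact AddSubgroup.mem_bot.1 (mem_of_nsmul hN (M := ⊥) (by rwa [AddSubgroup.mem_bot]))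
    · refine top_le_iff.1 (hfix.ge.trans (ker_anti (fun y hy => mem_FixL.2 hy) _))
  -- conclusion
  have htop : Ker (br N) (Set.univ : Set (LieRingOf N)) (bnd p (Nat.card A) c s) = ⊤ := by
    refine ker_eq_top_of_subset_closure (top_le_iff.1 ((chain ⊤ (fun _ _ _ => trivial)
      (fun _ _ _ _ => trivial) _ hsolv).ge.trans (ker_mono_nat (Nat.pow_le_pow_left hq _)))) ?_
    intro x _
    have hx : x ∈ AddSubgroup.closure (At spec) := by
      rw [closure_At hexp hN hC hgen]; trivial
    exact AddSubgroup.closure_mono (fun t ht => (⟨ht, trivial⟩ : t ∈ At spec ∩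
      ((⊤ : AddSubgroup (LieRingOf N)) : Set (LieRingOf N)))) hx
  refine gam_eq_bot_of_V _ fun x hx => ?_
  have hV : ∀ m, V (br N) m ⊆ (Pow (br N) Set.univ Set.univ m : Set (LieRingOf N)) := by
    intro m
    induction m with
    | zero => exact fun y _ => AddSubgroup.subset_closure trivial
    | succ m ih =>
      rintro _ ⟨u, v, hv, rfl⟩
      exact AddSubgroup.subset_closure ⟨u, trivial, v, ih hv, rfl⟩
  have := hV _ hx
  rw [pow_le_ker htop] at this
  exact this

end Main

end Cfsg.Agent.KS24
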